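import Groth.Agent.ResProp.EF.K409.HomS
import Groth.Agent.PerfB.KProjTop
import Groth.Agent.DRing.K226.KFlatSymm
import Groth.Agent.ResProp.EF.K119.LemTChart
import Mathlib.Algebra.Homology.BifunctorHomotopy

/-!
# Actions up to homotopy and their effect on `H^j(Y ⊗ K)` (c4 of F5)

* `HAct L r`: `r` is an action of the `A`-algebra `P` on the complex `L`, up to homotopy; `exists_hact`: it exists on a
  K-projective resolution of a complex on which `P` acts.
* `gam`: the map `H^j(us Y ⊗ L) ⟶ us H^j(Y ⊗ E)` for `e : L ⟶ us E`.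
* `Sm`: `H^j(Y ⊗ E)` is small for some action compatible with the one of `L`.
-/

set_option autoImplicit false
set_option backward.defeqAttrib.useBackward true
set_option backward.isDefEq.respectTransparency false

universe w v u

open CategoryTheory CategoryTheory.Limits MonoidalCategory HomologicalComplex

namespace Groth.Agent.ResProp.EF.K409

open Groth.Agent.ResProp.EF.K294 Groth.Agent.PerfB.RingKFlat Groth.Agent.PerfB Groth.Agent.ResProp.EF.K744
  Groth.Agent.ResProp.EF.K110 Groth.Agent.Dcoh.KFlatAbs Groth.Agent.PerfB.KProjTop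

section mod

variable {A : Type u} [CommRing A] {P : Type u} [CommRing P] [Algebra A P]

/-- `L ↦ Y ⊗ L` -/
noncomputable abbrev tensL (Y : CM A) : CM A ⥤ CM A := (TR A).map₂CochainComplex.obj Y

lemma tensL_homotopy (Y : CM A) {L L' : CM A} {φ ψ : L ⟶ L'} (h : Nonempty (Homotopy φ ψ)) (j : ℤ) :
    homologyMap ((tensL Y).map φ) j = homologyMap ((tensL Y).map ψ) j := by
  obtain ⟨h⟩ := h
  exact (mapBifunctorMapHomotopy₂ (𝟙 Y) h (TR A) (ComplexShape.up ℤ)).homologyMap_eq j

lemma tensL_smul (Y L : CM A) (a : A) : (tensL Y).map (a • 𝟙 L) = a • 𝟙 ((tensL Y).obj L) := by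
  refine HomologicalComplex.hom_ext _ _ (fun n => ?_)
  refine mapBifunctor.hom_ext (K₁ := Y) (K₂ := L) (F := TR A) (c := ComplexShape.up ℤ) (fun p q hpq => ?_)
  have h1 : ιMapBifunctor Y L (TR A) (ComplexShape.up ℤ) p q n hpq ≫ ((tensL Y).map (a • 𝟙 L)).f n =
      ((TR A).obj (Y.X p)).map ((a • 𝟙 L : L ⟶ L).f q) ≫
        ιMapBifunctor Y L (TR A) (ComplexShape.up ℤ) p q n hpq := by
    have h2 := ι_mapBifunctorMap (𝟙 Y) (a • 𝟙 L) (TR A) (ComplexShape.up ℤ) p q n hpq
    refine h2.trans ?_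
    simp
  have h3 : ((TR A).obj (Y.X p)).map ((a • 𝟙 L : L ⟶ L).f q) = a • 𝟙 _ := by
    have h4 : ((a • 𝟙 L : L ⟶ L).f q) = a • 𝟙 (L.X q) := by simp
    rw [h4]
    have h5 := MonoidalLinear.whiskerLeft_smul (Y.X p) a (𝟙 (L.X q))
    rw [MonoidalCategory.whiskerLeft_id] at h5
    exact h5
  rw [h1, h3]
  simp

/-- an action of `P` on `L` up to homotopy -/
structure HAct (L : CM A) (r : P → (L ⟶ L)) : Prop where
  one : Nonempty (Homotopy (r 1) (𝟙 L))
  mul : ∀ p q, Nonempty (Homotopy (r (p * q)) (r p ≫ r q))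
  add : ∀ p q, Nonempty (Homotopy (r (p + q)) (r p + r q))
  alg : ∀ a : A, Nonempty (Homotopy (r (algebraMap A P a)) (a • 𝟙 L))

lemma HAct.isAct {L : CM A} {r : P → (L ⟶ L)} (h : HAct L r) (Y : CM A) (j : ℤ) :
    IsAct (fun p => homologyMap ((tensL Y).map (r p)) j) where
  one := by rw [tensL_homotopy Y h.one, CategoryTheory.Functor.map_id, homologyMap_id]
  mul p q := by rw [tensL_homotopy Y (h.mul p q), Functor.map_comp, homologyMap_comp]
  add p q := by rw [tensL_homotopy Y (h.add p q), Functor.map_add, homologyMap_add]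
  alg a := by
    rw [tensL_homotopy Y (h.alg a), tensL_smul]
    have h1 : homologyMap (a • 𝟙 ((tensL Y).obj L)) j = a • homologyMap (𝟙 ((tensL Y).obj L)) j :=
      ShortComplex.homologyMap_smul (a := a)
        (φ := (shortComplexFunctor (ModuleCat.{u} A) (ComplexShape.up ℤ) j).map (𝟙 ((tensL Y).obj L)))
    rw [h1, homologyMap_id]

/-- the action on a K-projective resolution -/
theorem exists_hact {L E : CM A} [L.IsKProjective] (l : L ⟶ E) [QuasiIso l] (ρ : P → (E ⟶ E))
    (hρ : ∀ n, IsAct (fun p => (ρ p).f n)) :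
    ∃ r : P → (L ⟶ L), HAct L r ∧ ∀ p, Nonempty (Homotopy (r p ≫ l) (l ≫ ρ p)) := by
  letI := HasDerivedCategory.standard (ModuleCat.{u} A)
  have hl : IsIso (DerivedCategory.Q.map l) := inferInstance
  have h1 : ∀ p : P, ∃ r : L ⟶ L, DerivedCategory.Q.map r =
      DerivedCategory.Q.map l ≫ DerivedCategory.Q.map (ρ p) ≫ inv (DerivedCategory.Q.map l) :=
    fun p => exists_map_eq _
  choose r hr using h1
  have hr' : ∀ p, DerivedCategory.Q.map (r p) ≫ DerivedCategory.Q.map l =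
      DerivedCategory.Q.map l ≫ DerivedCategory.Q.map (ρ p) := fun p => by
    rw [hr, Category.assoc, Category.assoc, IsIso.inv_hom_id, Category.comp_id]
  have e1 : ρ 1 = 𝟙 E := HomologicalComplex.hom_ext _ _ (fun n => (hρ n).one)
  have e2 : ∀ p q, ρ (p * q) = ρ p ≫ ρ q := fun p q => HomologicalComplex.hom_ext _ _ (fun n => (hρ n).mul p q)
  have e3 : ∀ p q, ρ (p + q) = ρ p + ρ q := fun p q => HomologicalComplex.hom_ext _ _ (fun n => (hρ n).add p q)
  have e4 : ∀ a : A, ρ (algebraMap A P a) = a • 𝟙 E := fun a =>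
    HomologicalComplex.hom_ext _ _ (fun n => ((hρ n).alg a).trans (by simp))
  have key : ∀ f g : L ⟶ L, DerivedCategory.Q.map f ≫ DerivedCategory.Q.map l =
      DerivedCategory.Q.map g ≫ DerivedCategory.Q.map l → Nonempty (Homotopy f g) := fun f g h =>
    nonempty_homotopy _ _ ((cancel_mono (DerivedCategory.Q.map l)).1 h)
  refine ⟨r, ⟨?_, ?_, ?_, ?_⟩, ?_⟩
  · apply key
    rw [hr', e1, CategoryTheory.Functor.map_id, CategoryTheory.Functor.map_id, Category.comp_id, Category.id_comp]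
  · intro p q
    apply key
    rw [hr', e2, Functor.map_comp, Functor.map_comp, Category.assoc, hr', reassoc_of% (hr' p)]
  · intro p q
    apply key
    rw [hr', e3, Functor.map_add, Functor.map_add, Preadditive.add_comp, hr', hr', Preadditive.comp_add]
  · intro a
    apply key
    rw [hr', e4, ← Functor.map_comp, ← Functor.map_comp]
    congr 1
    rw [Linear.comp_smul, Linear.smul_comp, Category.comp_id, Category.id_comp]
  · intro p
    apply nonempty_homotopy
    rw [Functor.map_comp, Functor.map_comp, hr']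

end mod

variable {A : Type u} [CommRing A] {C : Type v} [Category.{w} C] [Abelian C] {X : Chart A C}
  {P : Type u} [CommRing P] [Algebra A P]
  {TC : C ⥤ C ⥤ C} {c : BifCompare.Data TC (TR A) X.us X.us X.us}
  [TC.Additive] [∀ M, (TC.obj M).Additive]
  [∀ K L : CochainComplex C ℤ, CochainComplex.HasMapBifunctor K L TC]

variable (X TC c) in
/-- the comparison map -/
noncomputable def gam {L : CM A} (Y E : CochainComplex C ℤ) (e : L ⟶ X.usC.obj E) (j : ℤ) :
    ((tensL (X.usC.obj Y)).obj L).homology j ⟶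
      X.us.obj (((TC.map₂CochainComplex.flip.obj E).obj Y).homology j) :=
  homologyMap ((tensL (X.usC.obj Y)).map e) j ≫ homologyMap ((totalIso X TC c E).app Y).inv j ≫
    (isoH X.us _ j).hom

/-- (γ1) -/
lemma gam_nat {L : CM A} {Y Y' : CochainComplex C ℤ} (f : Y ⟶ Y') (E : CochainComplex C ℤ)
    (e : L ⟶ X.usC.obj E) (j : ℤ) :
    homologyMap ((tensR L).map (X.usC.map f)) j ≫ gam X TC c Y' E e j =
      gam X TC c Y E e j ≫ X.us.map (homologyMap ((TC.map₂CochainComplex.flip.obj E).map f) j) := by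
  have h1 : (tensR L).map (X.usC.map f) ≫ (tensL (X.usC.obj Y')).map e =
      (tensL (X.usC.obj Y)).map e ≫ (tensR (X.usC.obj E)).map (X.usC.map f) :=
    (((TR A).map₂CochainComplex.map (X.usC.map f)).naturality e).symm
  have h2 : (tensR (X.usC.obj E)).map (X.usC.map f) ≫ ((totalIso X TC c E).app Y').inv =
      ((totalIso X TC c E).app Y).inv ≫ X.usC.map ((TC.map₂CochainComplex.flip.obj E).map f) :=
    (totalIso X TC c E).inv.naturality f
  rw [gam, gam]
  simp only [Category.assoc]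
  rw [← isoH_naturality, ← homologyMap_comp_assoc, h1, homologyMap_comp_assoc]
  congr 1
  rw [← homologyMap_comp_assoc, h2, homologyMap_comp_assoc]

/-- `φ` and the comparison -/
lemma oneT_map (Y : CochainComplex C ℤ) {E E' : CochainComplex C ℤ} (φ : E ⟶ E') :
    oneT X TC c Y (X.usC.map φ) = X.usC.map ((TC.map₂CochainComplex.obj Y).map φ) := by
  have h := BifCompare.iso_naturality c (𝟙 Y) φ
  rw [CategoryTheory.Functor.map_id] at h
  exact (Iso.inv_comp_eq (BifCompare.iso c Y E)).2 h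

/-- (γ2) -/
lemma gam_map {L : CM A} (Y : CochainComplex C ℤ) {E E' : CochainComplex C ℤ}
    (e : L ⟶ X.usC.obj E) (φ : E ⟶ E') (j : ℤ) :
    gam X TC c Y E' (e ≫ X.usC.map φ) j =
      gam X TC c Y E e j ≫ X.us.map (homologyMap ((TC.map₂CochainComplex.obj Y).map φ) j) := by
  have h1 : (tensL (X.usC.obj Y)).map (X.usC.map φ) ≫ ((totalIso X TC c E').app Y).inv =
      ((totalIso X TC c E).app Y).inv ≫ X.usC.map ((TC.map₂CochainComplex.obj Y).map φ) := by
    rw [← oneT_map, oneT, Iso.inv_hom_id_assoc]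
  rw [gam, gam]
  simp only [Category.assoc]
  rw [Functor.map_comp, homologyMap_comp_assoc]
  congr 1
  rw [← homologyMap_comp_assoc, h1, homologyMap_comp_assoc]
  congr 1
  exact isoH_naturality X.us ((TC.map₂CochainComplex.obj Y).map φ) j

/-- (γ3) -/
lemma gam_act {L : CM A} (Y : CochainComplex C ℤ) {E : CochainComplex C ℤ}
    (e : L ⟶ X.usC.obj E) {r : P → (L ⟶ L)} {ρ : P → (X.usC.obj E ⟶ X.usC.obj E)}
    (h : ∀ p, Nonempty (Homotopy (r p ≫ e) (e ≫ ρ p))) (j : ℤ) (p : P) :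
    gam X TC c Y E e j ≫ actH _ (fun p => oneT X TC c Y (ρ p)) j p =
      homologyMap ((tensL (X.usC.obj Y)).map (r p)) j ≫ gam X TC c Y E e j := by
  have h1 := tensL_homotopy (X.usC.obj Y) (h p) j
  rw [Functor.map_comp, Functor.map_comp, homologyMap_comp, homologyMap_comp] at h1
  have h2 : ((totalIso X TC c E).app Y).inv ≫ oneT X TC c Y (ρ p) =
      (tensL (X.usC.obj Y)).map (ρ p) ≫ ((totalIso X TC c E).app Y).inv := by
    rw [oneT, Iso.inv_hom_id_assoc]
  rw [gam, actH]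
  simp only [Category.assoc, Iso.hom_inv_id_assoc]
  rw [reassoc_of% h1]
  congr 1
  rw [← homologyMap_comp_assoc, h2, homologyMap_comp_assoc]

/-- smallness of `H^j(Y ⊗ E)` -/
def Sm (𝒮 : SmallTh X P TC c) {L : CM A} (r : P → (L ⟶ L)) (Y E : CochainComplex C ℤ) (e : L ⟶ X.usC.obj E)
    (j : ℤ) : Prop :=
  ∃ σ : P → (X.us.obj (((TC.map₂CochainComplex.flip.obj E).obj Y).homology j) ⟶
      X.us.obj (((TC.map₂CochainComplex.flip.obj E).obj Y).homology j)),
    (∀ p, gam X TC c Y E e j ≫ σ p = homologyMap ((tensL (X.usC.obj Y)).map (r p)) j ≫ gam X TC c Y E e j) ∧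
      𝒮.S _ σ

variable (𝒮 : SmallTh X P TC c) {L : CM A} (r : P → (L ⟶ L))

/-- the start -/
lemma Sm.base (Y E : CochainComplex C ℤ) (a b : ℤ) [E.IsStrictlyGE a] [E.IsStrictlyLE b] (e : L ⟶ X.usC.obj E)
    (ρ : P → (X.usC.obj E ⟶ X.usC.obj E)) (hS : ∀ n, 𝒮.S (E.X n) (fun p => (ρ p).f n))
    (h : ∀ p, Nonempty (Homotopy (r p ≫ e) (e ≫ ρ p))) (j : ℤ) : Sm 𝒮 r Y E e j :=
  ⟨actH _ (fun p => oneT X TC c Y (ρ p)) j, gam_act Y e h j, 𝒮.hom_total Y E a b ρ hS j⟩

lemma us_inv {M N : C} (f : M ⟶ N) [IsIso f] : X.us.map (inv f) = inv (X.us.map f) := by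
  rw [Functor.map_inv]

variable {𝒮 r}

/-- change of `E` -/
lemma Sm.map {Y E E' : CochainComplex C ℤ} {e : L ⟶ X.usC.obj E} (φ : E ⟶ E') {j : ℤ}
    [IsIso (homologyMap ((TC.map₂CochainComplex.obj Y).map φ) j)] (h : Sm 𝒮 r Y E e j) :
    Sm 𝒮 r Y E' (e ≫ X.usC.map φ) j := by
  obtain ⟨σ, h1, h2⟩ := h
  let g := homologyMap ((TC.map₂CochainComplex.obj Y).map φ) j
  have hg : IsIso g := inferInstance
  refine ⟨fun p => inv (X.us.map g) ≫ σ p ≫ X.us.map g, fun p => ?_, ?_⟩
  · rw [gam_map]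
    change (gam X TC c Y E e j ≫ X.us.map g) ≫ inv (X.us.map g) ≫ σ p ≫ X.us.map g = _
    rw [Category.assoc, IsIso.hom_inv_id_assoc, ← Category.assoc, h1, Category.assoc]
  · refine 𝒮.iso (asIso g) (fun p => ?_) h2
    change σ p ≫ X.us.map g = X.us.map g ≫ inv (X.us.map g) ≫ σ p ≫ X.us.map g
    rw [IsIso.hom_inv_id_assoc]

/-- change of `E`, backwards -/
lemma Sm.of_map {Y E E' : CochainComplex C ℤ} {e : L ⟶ X.usC.obj E} (φ : E ⟶ E') {j : ℤ}
    [IsIso (homologyMap ((TC.map₂CochainComplex.obj Y).map φ) j)] (h : Sm 𝒮 r Y E' (e ≫ X.usC.map φ) j) :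
    Sm 𝒮 r Y E e j := by
  obtain ⟨σ, h1, h2⟩ := h
  let g := homologyMap ((TC.map₂CochainComplex.obj Y).map φ) j
  have hg : IsIso g := inferInstance
  have h3 : ∀ p, (gam X TC c Y E e j ≫ X.us.map g) ≫ σ p =
      homologyMap ((tensL (X.usC.obj Y)).map (r p)) j ≫ gam X TC c Y E e j ≫ X.us.map g := fun p => by
    have := h1 p
    rw [gam_map] at this
    exact this
  refine ⟨fun p => X.us.map g ≫ σ p ≫ inv (X.us.map g), fun p => ?_, ?_⟩
  · rw [← Category.assoc, ← Category.assoc, h3, Category.assoc, Category.assoc, IsIso.hom_inv_id, Category.comp_id]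
  · refine 𝒮.iso (asIso g).symm (fun p => ?_) h2
    change σ p ≫ X.us.map (inv g) = X.us.map (inv g) ≫ X.us.map g ≫ σ p ≫ inv (X.us.map g)
    rw [Functor.map_inv, IsIso.inv_hom_id_assoc]

/-- change of `Y` -/
lemma Sm.mapY {Y Y' E : CochainComplex C ℤ} {e : L ⟶ X.usC.obj E} (f : Y ⟶ Y') {j : ℤ}
    [IsIso (homologyMap ((TC.map₂CochainComplex.flip.obj E).map f) j)]
    [Epi (homologyMap ((tensR L).map (X.usC.map f)) j)] (h : Sm 𝒮 r Y E e j) : Sm 𝒮 r Y' E e j := by
  obtain ⟨σ, h1, h2⟩ := h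
  let g := homologyMap ((TC.map₂CochainComplex.flip.obj E).map f) j
  have hg : IsIso g := inferInstance
  refine ⟨fun p => inv (X.us.map g) ≫ σ p ≫ X.us.map g, fun p => ?_, ?_⟩
  · rw [← cancel_epi (homologyMap ((tensR L).map (X.usC.map f)) j), ← Category.assoc, gam_nat]
    change (gam X TC c Y E e j ≫ X.us.map g) ≫ inv (X.us.map g) ≫ σ p ≫ X.us.map g = _
    rw [Category.assoc, IsIso.hom_inv_id_assoc, ← Category.assoc, h1, Category.assoc]
    change homologyMap ((tensL (X.usC.obj Y)).map (r p)) j ≫ gam X TC c Y E e j ≫ X.us.map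
      (homologyMap ((TC.map₂CochainComplex.flip.obj E).map f) j) = _
    rw [← gam_nat, ← homologyMap_comp_assoc, ← homologyMap_comp_assoc]
    congr 2
    exact (((TR A).map₂CochainComplex.map (X.usC.map f)).naturality (r p))
  · refine 𝒮.iso (asIso g) (fun p => ?_) h2
    change σ p ≫ X.us.map g = X.us.map g ≫ inv (X.us.map g) ≫ σ p ≫ X.us.map g
    rw [IsIso.hom_inv_id_assoc]

end Groth.Agent.ResProp.EF.K409
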