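import Groth.Agent.ResProp.EF.K409.Th
import Groth.Agent.ResProp.EF.K792.RGEdge

/-!
# Smallness theories: finite covers, cohomology of complexes, total complexes (c4 of F5)

* `SmallTh.of_cover`: an object covered by finitely many small objects (equivariantly) is small.
* `SmallTh.hom`: the cohomology of a complex with `P`-action and small terms is small.
* `SmallTh.total`: the terms of the total complex `Y ⊗ K` are small, `K` bounded with small terms.
* `SmallTh.hom_total`: `H^j(Y ⊗ K)` is small.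
-/

set_option autoImplicit false
set_option backward.defeqAttrib.useBackward true
set_option backward.isDefEq.respectTransparency false

universe w v u

open CategoryTheory CategoryTheory.Limits MonoidalCategory HomologicalComplex

namespace Groth.Agent.ResProp.EF.K409

open Groth.Agent.ResProp.EF.K294 Groth.Agent.PerfB.RingKFlat Groth.Agent.PerfB Groth.Agent.ResProp.EF.K744
  Groth.Agent.ResProp.EF.K110

section Act

variable {A : Type u} [CommRing A] {P : Type u} [CommRing P] [Algebra A P]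

lemma IsAct.of_mono {V W : ModuleCat.{u} A} {ρ : P → (V ⟶ V)} {σ : P → (W ⟶ W)} (i : V ⟶ W) [Mono i]
    (hi : ∀ p, ρ p ≫ i = i ≫ σ p) (h : IsAct σ) : IsAct ρ where
  one := by rw [← cancel_mono i, hi, h.one]; simp
  mul p q := by rw [← cancel_mono i, hi, h.mul, Category.assoc, hi, ← Category.assoc, ← hi, Category.assoc]
  add p q := by rw [← cancel_mono i, hi, h.add, Preadditive.add_comp, hi, hi, Preadditive.comp_add]
  alg a := by rw [← cancel_mono i, hi, h.alg]; simp

lemma IsAct.of_epi {V W : ModuleCat.{u} A} {ρ : P → (V ⟶ V)} {σ : P → (W ⟶ W)} (q : V ⟶ W) [Epi q]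
    (hi : ∀ p, ρ p ≫ q = q ≫ σ p) (h : IsAct ρ) : IsAct σ where
  one := by rw [← cancel_epi q, ← hi, h.one]; simp
  mul p p' := by
    rw [← cancel_epi q, ← hi, h.mul, Category.assoc, hi, ← Category.assoc, hi, Category.assoc]
  add p p' := by rw [← cancel_epi q, ← hi, h.add, Preadditive.add_comp, hi, hi, Preadditive.comp_add]
  alg a := by rw [← cancel_epi q, ← hi, h.alg]; simp

end Act

variable {A : Type u} [CommRing A] {C : Type v} [Category.{w} C] [Abelian C] {X : Chart A C}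
  {P : Type u} [CommRing P] [Algebra A P]
  {TC : C ⥤ C ⥤ C} {c : BifCompare.Data TC (TR A) X.us X.us X.us}

namespace SmallTh

variable (𝒮 : SmallTh X P TC c)

include 𝒮 in
/-- the action is determined on a subobject -/
lemma sub' {M N : C} (i : N ⟶ M) [Mono i] {ρ : P → (X.us.obj M ⟶ X.us.obj M)}
    {ρ' : P → (X.us.obj N ⟶ X.us.obj N)} (hi : ∀ p, ρ' p ≫ X.us.map i = X.us.map i ≫ ρ p)
    (h : 𝒮.S M ρ) : 𝒮.S N ρ' :=
  𝒮.sub i hi (IsAct.of_mono (X.us.map i) hi (𝒮.act _ _ h)) h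

lemma quot' {M N : C} (q : M ⟶ N) [Epi q] {ρ : P → (X.us.obj M ⟶ X.us.obj M)}
    {ρ' : P → (X.us.obj N ⟶ X.us.obj N)} (hi : ∀ p, ρ p ≫ X.us.map q = X.us.map q ≫ ρ' p)
    (h : 𝒮.S M ρ) : 𝒮.S N ρ' :=
  𝒮.quot q hi (IsAct.of_epi (X.us.map q) hi (𝒮.act _ _ h)) h

/-- the induced action on a cokernel -/
lemma exists_cokernel {M N : C} (f : M ⟶ N) {ρ : P → (X.us.obj M ⟶ X.us.obj M)}
    {ρ' : P → (X.us.obj N ⟶ X.us.obj N)} (hf : ∀ p, ρ p ≫ X.us.map f = X.us.map f ≫ ρ' p) (h' : IsAct ρ') :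
    ∃ ρ'' : P → (X.us.obj (cokernel f) ⟶ X.us.obj (cokernel f)),
      (∀ p, ρ' p ≫ X.us.map (cokernel.π f) = X.us.map (cokernel.π f) ≫ ρ'' p) ∧ IsAct ρ'' := by
  have hex : ((ShortComplex.mk f (cokernel.π f) (by simp)).map X.us).Exact :=
    (ShortComplex.exact_cokernel f).map X.us
  have hepi : Epi ((ShortComplex.mk f (cokernel.π f) (by simp)).map X.us).g :=
    inferInstanceAs (Epi (X.us.map (cokernel.π f)))
  have h0 : ∀ p, ((ShortComplex.mk f (cokernel.π f) (by simp)).map X.us).f ≫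
      (ρ' p ≫ X.us.map (cokernel.π f)) = 0 := by
    intro p
    have h1 : X.us.map f ≫ ρ' p ≫ X.us.map (cokernel.π f) = 0 := by
      rw [← Category.assoc, ← hf, Category.assoc, ← X.us.map_comp, cokernel.condition, X.us.map_zero, comp_zero]
    exact h1
  have h2 : ∀ p, ρ' p ≫ X.us.map (cokernel.π f) = X.us.map (cokernel.π f) ≫
      hex.desc (ρ' p ≫ X.us.map (cokernel.π f)) (h0 p) := fun p => (hex.g_desc _ (h0 p)).symm
  exact ⟨_, h2, IsAct.of_epi _ h2 h'⟩

/-- an object covered by finitely many small objects is small -/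
theorem of_cover {ι : Type*} (s : Finset ι) : ∀ (M : C) (ρ : P → (X.us.obj M ⟶ X.us.obj M)), IsAct ρ →
    ∀ (N : ι → C) (σ : ∀ i, P → (X.us.obj (N i) ⟶ X.us.obj (N i))) (f : ∀ i, N i ⟶ M),
    (∀ i ∈ s, ∀ p, σ i p ≫ X.us.map (f i) = X.us.map (f i) ≫ ρ p) → (∀ i ∈ s, 𝒮.S (N i) (σ i)) →
    (∀ (Z : C) (g : M ⟶ Z), (∀ i ∈ s, f i ≫ g = 0) → g = 0) → 𝒮.S M ρ := by
  classical
  induction s using Finset.induction_on with
  | empty =>
    intro M ρ hρ N σ f hf hS hj
    refine 𝒮.zero M ρ ?_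
    rw [IsZero.iff_id_eq_zero]
    exact hj M (𝟙 M) (by simp)
  | insert i s hi ih =>
    intro M ρ hρ N σ f hf hS hj
    obtain ⟨ρ', h1, h2⟩ := exists_cokernel (f i) (hf i (by simp)) hρ
    refine 𝒮.mid (N i) M (cokernel (f i)) (f i) (cokernel.π (f i)) (by simp) (σ i) ρ ρ'
      (ShortComplex.exact_cokernel (f i)) (hf i (by simp)) h1 hρ (hS i (by simp)) ?_
    refine ih (cokernel (f i)) ρ' h2 N σ (fun j => f j ≫ cokernel.π (f i)) ?_ (fun j hj' => hS j (by simp [hj'])) ?_
    · intro j hj' p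
      rw [X.us.map_comp, ← Category.assoc, hf j (by simp [hj']) p, Category.assoc, h1, Category.assoc]
    · intro Z g hg
      rw [← cancel_epi (cokernel.π (f i)), comp_zero]
      refine hj Z _ (fun j hj' => ?_)
      rcases Finset.mem_insert.1 hj' with rfl | hj''
      · rw [← Category.assoc, cokernel.condition, zero_comp]
      · rw [← Category.assoc]
        exact hg j hj''

end SmallTh

/-- the induced action on cohomology -/
noncomputable def actH (K : CochainComplex C ℤ) (ρ : P → (X.usC.obj K ⟶ X.usC.obj K)) (j : ℤ) (p : P) :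
    X.us.obj (K.homology j) ⟶ X.us.obj (K.homology j) :=
  (isoH X.us K j).inv ≫ homologyMap (ρ p) j ≫ (isoH X.us K j).hom

namespace SmallTh

variable (𝒮 : SmallTh X P TC c)

/-- **cohomology of small complexes** -/
theorem hom (K : CochainComplex C ℤ) (ρ : P → (X.usC.obj K ⟶ X.usC.obj K)) (j : ℤ)
    (h : 𝒮.S (K.X j) (fun p => (ρ p).f j)) : 𝒮.S (K.homology j) (actH K ρ j) := by
  let eZ : (X.usC.obj K).cycles j ≅ X.us.obj (K.cycles j) := (K.sc j).mapCyclesIso X.us
  have h1 : 𝒮.S (K.cycles j) (fun p => eZ.inv ≫ cyclesMap (ρ p) j ≫ eZ.hom) := by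
    refine 𝒮.sub' (K.iCycles j) (fun p => ?_) h
    have h2 : eZ.hom ≫ X.us.map (K.iCycles j) = (X.usC.obj K).iCycles j :=
      (K.sc j).mapCyclesIso_hom_iCycles X.us
    have h3 : X.us.map (K.iCycles j) = eZ.inv ≫ (X.usC.obj K).iCycles j := by
      rw [← h2, Iso.inv_hom_id_assoc]
    rw [h3, Category.assoc, Category.assoc, Iso.hom_inv_id_assoc, Category.assoc]
    congr 1
    exact cyclesMap_i (ρ p) j
  refine 𝒮.quot' (K.homologyπ j) (fun p => ?_) h1
  have h4 : (X.usC.obj K).homologyπ j ≫ (isoH X.us K j).hom = eZ.hom ≫ X.us.map (K.homologyπ j) :=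
    K792.homologyπ_mapHomologyIso X.us (K.sc j)
  have h5 : X.us.map (K.homologyπ j) = eZ.inv ≫ (X.usC.obj K).homologyπ j ≫ (isoH X.us K j).hom := by
    rw [h4, Iso.inv_hom_id_assoc]
  rw [h5, actH]
  simp only [Category.assoc, Iso.hom_inv_id_assoc]
  rw [homologyπ_naturality_assoc]

/-- transport of `actH` along an isomorphism on cohomology -/
lemma hom_iso {K L : CochainComplex C ℤ} (f : K ⟶ L) (j : ℤ) [IsIso (homologyMap f j)]
    (ρ : P → (X.usC.obj K ⟶ X.usC.obj K)) (σ : P → (X.usC.obj L ⟶ X.usC.obj L))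
    (hf : ∀ p, homologyMap (ρ p ≫ X.usC.map f) j = homologyMap (X.usC.map f ≫ σ p) j) :
    𝒮.S (K.homology j) (actH K ρ j) ↔ 𝒮.S (L.homology j) (actH L σ j) := by
  have h1 : ∀ p, actH K ρ j p ≫ X.us.map (homologyMap f j) = X.us.map (homologyMap f j) ≫ actH L σ j p := by
    intro p
    have h2 := isoH_naturality X.us f j
    have h3 : X.us.map (homologyMap f j) =
        (isoH X.us K j).inv ≫ homologyMap (X.usC.map f) j ≫ (isoH X.us L j).hom := by
      rw [Iso.eq_inv_comp]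
      exact h2.symm
    rw [h3, actH, actH]
    simp only [Category.assoc, Iso.hom_inv_id_assoc]
    rw [← homologyMap_comp_assoc, hf, homologyMap_comp_assoc]
  constructor
  · intro h
    exact 𝒮.iso (asIso (homologyMap f j)) h1 h
  · intro h
    refine 𝒮.iso (asIso (homologyMap f j)).symm (fun p => ?_) h
    have h4 := h1 p
    have h5 : X.us.map (homologyMap f j) ≫ X.us.map (inv (homologyMap f j)) = 𝟙 _ := by
      rw [← X.us.map_comp, IsIso.hom_inv_id, X.us.map_id]
    have h6 : X.us.map (inv (homologyMap f j)) ≫ X.us.map (homologyMap f j) = 𝟙 _ := by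
      rw [← X.us.map_comp, IsIso.inv_hom_id, X.us.map_id]
    change actH L σ j p ≫ X.us.map (inv (homologyMap f j)) = X.us.map (inv (homologyMap f j)) ≫ actH K ρ j p
    calc actH L σ j p ≫ X.us.map (inv (homologyMap f j))
        = X.us.map (inv (homologyMap f j)) ≫ (X.us.map (homologyMap f j) ≫ actH L σ j p) ≫
          X.us.map (inv (homologyMap f j)) := by
          rw [Category.assoc, ← Category.assoc (X.us.map (inv _)), h6, Category.id_comp]
      _ = X.us.map (inv (homologyMap f j)) ≫ actH K ρ j p := by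
          rw [← h4, Category.assoc, h5, Category.comp_id]

end SmallTh

section total

variable [TC.Additive] [∀ M, (TC.obj M).Additive]
  [∀ K L : CochainComplex C ℤ, CochainComplex.HasMapBifunctor K L TC]

variable (X TC c) in
/-- the map `1 ⊗ φ` on `us (Y ⊗ K)` for `φ : us K → us K` -/
noncomputable def oneT (Y : CochainComplex C ℤ) {K K' : CochainComplex C ℤ} (φ : X.usC.obj K ⟶ X.usC.obj K') :
    X.usC.obj ((TC.map₂CochainComplex.flip.obj K).obj Y) ⟶ X.usC.obj ((TC.map₂CochainComplex.flip.obj K').obj Y) :=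
  ((totalIso X TC c K).app Y).hom ≫ ((TR A).map₂CochainComplex.obj (X.usC.obj Y)).map φ ≫
    ((totalIso X TC c K').app Y).inv

lemma ι_oneT (Y K K' : CochainComplex C ℤ) (φ : X.usC.obj K ⟶ X.usC.obj K') (p q n : ℤ) (h : p + q = n) :
    X.us.map (ιMapBifunctor Y K TC (ComplexShape.up ℤ) p q n h) ≫ (oneT X TC c Y φ).f n =
      ((c.e (Y.X p) (K.X q)).hom ≫ ((TR A).obj (X.us.obj (Y.X p))).map (φ.f q) ≫
        (c.e (Y.X p) (K'.X q)).inv) ≫ X.us.map (ιMapBifunctor Y K' TC (ComplexShape.up ℤ) p q n h) := by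
  have h1 : ((oneT X TC c Y φ).f n) = BifCompare.compInv c Y K n ≫
      (mapBifunctorMap (𝟙 (X.usC.obj Y)) φ (TR A) (ComplexShape.up ℤ)).f n ≫ BifCompare.comp c Y K' n := rfl
  rw [h1]
  rw [BifCompare.ι_compInv_assoc, ι_mapBifunctorMap_assoc]
  have h2 := BifCompare.ι_comp c Y K' p q n h
  simp only [Category.assoc]
  erw [h2]
  simp

lemma IsAct.of_jointly {ι : Type*} {W : ModuleCat.{u} A} {V : ι → ModuleCat.{u} A}
    {ρ : ∀ i, P → (V i ⟶ V i)} {σ : P → (W ⟶ W)} (f : ∀ i, V i ⟶ W)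
    (hj : ∀ g g' : W ⟶ W, (∀ i, f i ≫ g = f i ≫ g') → g = g')
    (hf : ∀ i p, f i ≫ σ p = ρ i p ≫ f i) (h : ∀ i, IsAct (ρ i)) : IsAct σ where
  one := hj _ _ (fun i => by rw [hf, (h i).one]; simp)
  mul p q := hj _ _ (fun i => by
    rw [hf, (h i).mul, ← Category.assoc, hf, Category.assoc, Category.assoc, hf])
  add p q := hj _ _ (fun i => by
    rw [hf, (h i).add, Preadditive.comp_add, Preadditive.add_comp, hf, hf])
  alg a := hj _ _ (fun i => by rw [hf, (h i).alg]; simp)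

/-- **the terms of `Y ⊗ K`** -/
theorem SmallTh.total (𝒮 : SmallTh X P TC c) (Y K : CochainComplex C ℤ) (a b : ℤ) [K.IsStrictlyGE a]
    [K.IsStrictlyLE b] (ρ : P → (X.usC.obj K ⟶ X.usC.obj K)) (h : ∀ n, 𝒮.S (K.X n) (fun p => (ρ p).f n)) (n : ℤ) :
    𝒮.S (((TC.map₂CochainComplex.flip.obj K).obj Y).X n) (fun p => (oneT X TC c Y (ρ p)).f n) := by
  have hact : IsAct (fun p => (oneT X TC c Y (ρ p)).f n) := by
    refine IsAct.of_jointly (ι := {i : ℤ × ℤ // i.1 + i.2 = n})
      (fun i => X.us.map (ιMapBifunctor Y K TC (ComplexShape.up ℤ) i.1.1 i.1.2 n i.2)) ?_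
      (fun i p => ι_oneT Y K K (ρ p) i.1.1 i.1.2 n i.2)
      (fun i => 𝒮.act _ _ (𝒮.tens (Y.X i.1.1) (K.X i.1.2) _ (h i.1.2)))
    intro g g' hg
    refine BifCompare.hom_ext_map (K := Y) (L := K) (T := TC) (H := X.us) (fun p q hpq => ?_)
    exact hg ⟨(p, q), hpq⟩
  refine 𝒮.of_cover (Finset.Icc a b) _ _ hact
    (fun q => (TC.obj (Y.X (n - q))).obj (K.X q))
    (fun q p => (c.e (Y.X (n - q)) (K.X q)).hom ≫ ((TR A).obj (X.us.obj (Y.X (n - q)))).map ((ρ p).f q) ≫
        (c.e (Y.X (n - q)) (K.X q)).inv)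
    (fun q => ιMapBifunctor Y K TC (ComplexShape.up ℤ) (n - q) q n (sub_add_cancel n q)) ?_ ?_ ?_
  · intro q _ p
    exact (ι_oneT Y K K (ρ p) (n - q) q n (sub_add_cancel n q)).symm
  · intro q _
    exact 𝒮.tens (Y.X (n - q)) (K.X q) _ (h q)
  · intro Z g hg
    refine mapBifunctor.hom_ext (K₁ := Y) (K₂ := K) (F := TC) (c := ComplexShape.up ℤ) (fun p q hpq => ?_)
    have hpq' : p + q = n := hpq
    obtain rfl : p = n - q := by lia
    by_cases hq : q ∈ Finset.Icc a b
    · rw [comp_zero]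
      exact hg q hq
    · have h1 : IsZero (K.X q) := by
        rw [Finset.mem_Icc, not_and_or, not_le, not_le] at hq
        rcases hq with hq | hq
        · exact K.isZero_of_isStrictlyGE a q hq
        · exact K.isZero_of_isStrictlyLE b q hq
      exact ((TC.obj _).map_isZero h1).eq_of_src _ _

/-- **the cohomology of `Y ⊗ K`** -/
theorem SmallTh.hom_total (𝒮 : SmallTh X P TC c) (Y K : CochainComplex C ℤ) (a b : ℤ) [K.IsStrictlyGE a]
    [K.IsStrictlyLE b] (ρ : P → (X.usC.obj K ⟶ X.usC.obj K)) (h : ∀ n, 𝒮.S (K.X n) (fun p => (ρ p).f n)) (j : ℤ) :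
    𝒮.S (((TC.map₂CochainComplex.flip.obj K).obj Y).homology j)
      (actH _ (fun p => oneT X TC c Y (ρ p)) j) :=
  𝒮.hom _ _ j (𝒮.total Y K a b ρ h j)

end total

end Groth.Agent.ResProp.EF.K409
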