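import Groth.Agent.ResProp.EF.K409.Act

/-!
# The action of `P` on `us H^j(Y ⊗ K)` and the induction (c4 of F5)

`K` bounded with `us K^n` flat, `k : L ⟶ us K` a quasi-isomorphism from a K-flat complex with an action `r` of `P` up to
homotopy. `actK`: the action of `P` on `us H^j(Y ⊗ K)`, natural in `Y`. `small_all`: if `H^j(ul N ⊗ K)` is small for
all bounded `N` and all `j`, then `H^j(Y ⊗ K)` is small for all bounded `Y` and all `j`.
-/

set_option autoImplicit false
set_option backward.defeqAttrib.useBackward true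
set_option backward.isDefEq.respectTransparency false

universe w v u

open CategoryTheory CategoryTheory.Limits MonoidalCategory HomologicalComplex

namespace Groth.Agent.ResProp.EF.K409

open Groth.Agent.ResProp.EF.K294 Groth.Agent.PerfB.RingKFlat Groth.Agent.PerfB Groth.Agent.ResProp.EF.K744
  Groth.Agent.ResProp.EF.K110 Groth.Agent.Dcoh.KFlatAbs Groth.Agent.PerfB.KProjTop Groth.Agent.Cohder.CoconeSES
  CochainComplex

variable {A : Type u} [CommRing A] {C : Type v} [Category.{w} C] [Abelian C] {X : Chart A C}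
  {P : Type u} [CommRing P] [Algebra A P]
  {TC : C ⥤ C ⥤ C} {c : BifCompare.Data TC (TR A) X.us X.us X.us}
  [TC.Additive] [∀ M, (TC.obj M).Additive]
  [∀ K L : CochainComplex C ℤ, CochainComplex.HasMapBifunctor K L TC]

lemma quasiIso_of_usC {K L : CochainComplex C ℤ} (f : K ⟶ L) (h : QuasiIso (X.usC.map f)) : QuasiIso f :=
  (quasiIso_map_iff_of_preservesHomology f X.us).1 h

lemma quasiIso_usC {K L : CochainComplex C ℤ} (f : K ⟶ L) [QuasiIso f] : QuasiIso (X.usC.map f) :=
  (quasiIso_map_iff_of_preservesHomology f X.us).2 inferInstance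

/-- the comparison map is an isomorphism -/
lemma isIso_gam {L : CM A} (hL : KFl (TR A) L) {K : CochainComplex C ℤ} (hK : KFl (TR A) (X.usC.obj K))
    (k : L ⟶ X.usC.obj K) [QuasiIso k] (Y : CochainComplex C ℤ) (j : ℤ) : IsIso (gam X TC c Y K k j) := by
  have h1 : QuasiIso ((tensL (X.usC.obj Y)).map k) :=
    K226.KFlat.quasiIso_whiskerLeft_of_kfl k hL hK (X.usC.obj Y)
  have h2 : IsIso (homologyMap ((tensL (X.usC.obj Y)).map k) j) := inferInstance
  rw [gam]
  infer_instance

section K

variable (X TC c) in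
/-- the action of `P` on `us H^j(Y ⊗ K)` -/
noncomputable def actK {L : CM A} (K : CochainComplex C ℤ) (k : L ⟶ X.usC.obj K)
    (hk : ∀ Y j, IsIso (gam X TC c Y K k j)) (r : P → (L ⟶ L)) (Y : CochainComplex C ℤ) (j : ℤ) (p : P) :
    X.us.obj (((TC.map₂CochainComplex.flip.obj K).obj Y).homology j) ⟶
      X.us.obj (((TC.map₂CochainComplex.flip.obj K).obj Y).homology j) :=
  haveI := hk Y j
  inv (gam X TC c Y K k j) ≫ homologyMap ((tensL (X.usC.obj Y)).map (r p)) j ≫ gam X TC c Y K k j

variable {L : CM A} {K : CochainComplex C ℤ} {k : L ⟶ X.usC.obj K}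
  (hk : ∀ Y j, IsIso (gam X TC c Y K k j)) {r : P → (L ⟶ L)}

omit [CommRing P] [Algebra A P] in
lemma gam_actK (Y : CochainComplex C ℤ) (j : ℤ) (p : P) :
    gam X TC c Y K k j ≫ actK X TC c K k hk r Y j p =
      homologyMap ((tensL (X.usC.obj Y)).map (r p)) j ≫ gam X TC c Y K k j := by
  have := hk Y j
  rw [actK, IsIso.hom_inv_id_assoc]

omit [CommRing P] [Algebra A P] in
/-- naturality of the action -/
lemma actK_nat {Y Y' : CochainComplex C ℤ} (f : Y ⟶ Y') (j : ℤ) (p : P) :
    actK X TC c K k hk r Y j p ≫ X.us.map (homologyMap ((TC.map₂CochainComplex.flip.obj K).map f) j) =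
      X.us.map (homologyMap ((TC.map₂CochainComplex.flip.obj K).map f) j) ≫ actK X TC c K k hk r Y' j p := by
  have := hk Y j
  rw [← cancel_epi (gam X TC c Y K k j), ← Category.assoc, gam_actK, Category.assoc, ← gam_nat,
    ← Category.assoc (gam X TC c Y K k j), ← gam_nat, Category.assoc, gam_actK, ← homologyMap_comp_assoc,
    ← homologyMap_comp_assoc]
  congr 2
  exact (((TR A).map₂CochainComplex.map (X.usC.map f)).naturality (r p))

lemma isAct_actK (hr : HAct L r) (Y : CochainComplex C ℤ) (j : ℤ) : IsAct (actK X TC c K k hk r Y j) := by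
  have := hk Y j
  exact (hr.isAct (X.usC.obj Y) j).of_iso (asIso (gam X TC c Y K k j))

variable (𝒮 : SmallTh X P TC c)

lemma small_of_sm {Y : CochainComplex C ℤ} {j : ℤ} (h : Sm 𝒮 r Y K k j) :
    𝒮.S _ (actK X TC c K k hk r Y j) := by
  have := hk Y j
  obtain ⟨σ, h1, h2⟩ := h
  have h3 : σ = actK X TC c K k hk r Y j := by
    funext p
    rw [← cancel_epi (gam X TC c Y K k j), h1, gam_actK]
  rwa [← h3]

lemma small_iff_of_isIso {Y Y' : CochainComplex C ℤ} (f : Y ⟶ Y') (j : ℤ)
    [IsIso (homologyMap ((TC.map₂CochainComplex.flip.obj K).map f) j)] :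
    𝒮.S _ (actK X TC c K k hk r Y j) ↔ 𝒮.S _ (actK X TC c K k hk r Y' j) := by
  let g := homologyMap ((TC.map₂CochainComplex.flip.obj K).map f) j
  have hg : IsIso g := inferInstance
  have h1 : ∀ p, actK X TC c K k hk r Y j p ≫ X.us.map g = X.us.map g ≫ actK X TC c K k hk r Y' j p :=
    fun p => actK_nat hk f j p
  constructor
  · intro h
    exact 𝒮.iso (asIso g) h1 h
  · intro h
    refine 𝒮.iso (asIso g).symm (fun p => ?_) h
    change actK X TC c K k hk r Y' j p ≫ X.us.map (inv g) = X.us.map (inv g) ≫ actK X TC c K k hk r Y j p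
    rw [Functor.map_inv, IsIso.eq_inv_comp, ← Category.assoc, ← h1, Category.assoc, IsIso.hom_inv_id,
      Category.comp_id]

variable (c) in
/-- middle terms -/
lemma small_mid (hr : HAct L r) (hK : ∀ n : ℤ, Module.Flat A (X.us.obj (K.X n)))
    {S : ShortComplex (CochainComplex C ℤ)} (hS : S.ShortExact) (j : ℤ)
    (h1 : 𝒮.S _ (actK X TC c K k hk r S.X₁ j)) (h3 : 𝒮.S _ (actK X TC c K k hk r S.X₃ j)) :
    𝒮.S _ (actK X TC c K k hk r S.X₂ j) := by
  have hS' := shortExact_total X TC c hS K hK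
  have hex := hS'.homology_exact₂ j
  exact 𝒮.mid _ _ _ _ _ _ _ _ _ hex (fun p => actK_nat hk S.f j p) (fun p => actK_nat hk S.g j p)
    (isAct_actK hk hr S.X₂ j) h1 h3

end K

section bounds

/-- the terms of the mapping cocone -/
lemma isZero_mappingCocone {K L : CochainComplex C ℤ} (f : K ⟶ L) (p q : ℤ) (hpq : p + -1 = q)
    (h1 : IsZero (K.X p)) (h2 : IsZero (L.X q)) : IsZero ((mappingCocone f).X p) := by
  rw [IsZero.iff_id_eq_zero]
  exact hom_ext_to f p q hpq (h1.eq_of_tgt _ _) (h2.eq_of_tgt _ _)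

instance epi_fst {K L : CochainComplex C ℤ} (f : K ⟶ L) : Epi (mappingCocone.fst f) := by
  have : ∀ n, Epi ((mappingCocone.fst f).f n) := fun n =>
    (IsSplitEpi.mk' ⟨(mappingCocone.inl f).v n n (add_zero n), mappingCocone.inl_v_fst_f f n⟩).epi
  exact epi_of_epi_f _ this

lemma isZero_kernel_fst {K L : CochainComplex C ℤ} (f : K ⟶ L) (p q : ℤ) (hpq : p + -1 = q)
    (h : IsZero (L.X q)) : IsZero ((kernel (mappingCocone.fst f)).X p) := by
  have h1 : Mono ((mappingCocone.fst f).f p) :=
    ⟨fun x y hxy => hom_ext_to f p q hpq hxy (h.eq_of_tgt _ _)⟩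
  have h2 : (kernel.ι (mappingCocone.fst f)).f p ≫ (mappingCocone.fst f).f p = 0 := by
    rw [← comp_f, kernel.condition, zero_f]
  have h3 : (kernel.ι (mappingCocone.fst f)).f p = 0 := by
    rw [← cancel_mono ((mappingCocone.fst f).f p), h2, zero_comp]
  have h4 : Mono ((kernel.ι (mappingCocone.fst f)).f p) := inferInstance
  rw [IsZero.iff_id_eq_zero]
  rw [← cancel_mono ((kernel.ι (mappingCocone.fst f)).f p), h3, comp_zero, comp_zero]

end bounds

/-- **the induction** -/
theorem small_all {L : CM A} {K : CochainComplex C ℤ} {k : L ⟶ X.usC.obj K}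
    (hk : ∀ Y j, IsIso (gam X TC c Y K k j)) {r : P → (L ⟶ L)} (𝒮 : SmallTh X P TC c) (hr : HAct L r)
    (hK : ∀ n : ℤ, Module.Flat A (X.us.obj (K.X n))) (a : ℤ) [K.IsStrictlyGE a]
    (hul : ∀ (N : CM A) (l u : ℤ), N.IsStrictlyGE l → N.IsStrictlyLE u → ∀ j,
      𝒮.S _ (actK X TC c K k hk r (X.ulC.obj N) j)) :
    ∀ (n : ℕ) (Y : CochainComplex C ℤ) (l u : ℤ), Y.IsStrictlyGE l → Y.IsStrictlyLE u → ∀ j, j < l + a + n →
      𝒮.S _ (actK X TC c K k hk r Y j) := by
  intro n
  induction n with
  | zero =>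
    intro Y l u hl _ j hj
    refine 𝒮.zero _ _ ?_
    rw [← HomologicalComplex.exactAt_iff_isZero_homology]
    refine exactAt_of_isZero_X (isZero_total_X TC Y K j (fun p q hpq => ?_))
    by_cases hp : p < l
    · exact (TC.flip.obj _).map_isZero (Y.isZero_of_isStrictlyGE l p hp)
    · exact (TC.obj _).map_isZero (K.isZero_of_isStrictlyGE a q (by push_cast at hj; lia))
  | succ n ih =>
    intro Y l u hl hu j hj
    let Y' : CochainComplex C ℤ := X.ulC.obj (X.usC.obj Y)
    let η : Y ⟶ Y' := unitC X.adj Y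
    have hη : Mono η := by
      have : ∀ i, Mono (η.f i) := fun i => inferInstanceAs (Mono (X.adj.unit.app (Y.X i)))
      exact mono_of_mono_f _ this
    let π : Y' ⟶ cokernel η := cokernel.π η
    have w : η ≫ π = 0 := cokernel.condition η
    have hS : (ShortComplex.mk η π w).ShortExact :=
      { exact := ShortComplex.exact_cokernel η
        mono_f := hη
        epi_g := inferInstanceAs (Epi (cokernel.π η)) }
    let g : cokernel η ⟶ cokernel η := 𝟙 _
    let M : CochainComplex C ℤ := mappingCocone (π ≫ g)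
    let κ : Y ⟶ M := Groth.Agent.Cohder.CoconeSES.k g w
    have hκ : QuasiIso κ := quasiIso_k hS g
    let F : CochainComplex C ℤ := kernel (mappingCocone.fst (π ≫ g))
    have hS' : (ShortComplex.mk (kernel.ι (mappingCocone.fst (π ≫ g))) (mappingCocone.fst (π ≫ g))
        (kernel.condition _)).ShortExact :=
      { exact := ShortComplex.exact_kernel _
        mono_f := inferInstanceAs (Mono (kernel.ι _))
        epi_g := inferInstanceAs (Epi (mappingCocone.fst (π ≫ g))) }
    -- bounds
    have z1 : ∀ i, i < l → IsZero (Y.X i) := fun i hi => Y.isZero_of_isStrictlyGE l i hi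
    have z2 : ∀ i, u < i → IsZero (Y.X i) := fun i hi => Y.isZero_of_isStrictlyLE u i hi
    have z3 : ∀ i, IsZero (Y.X i) → IsZero (Y'.X i) := fun i hi => X.ul.map_isZero (X.us.map_isZero hi)
    have z4 : ∀ i, IsZero (Y.X i) → IsZero ((cokernel η).X i) := fun i hi => by
      have : Epi (π.f i) := inferInstance
      exact (z3 i hi).of_epi (π.f i)
    have hM : M.IsStrictlyGE l := by
      rw [isStrictlyGE_iff]
      exact fun i hi => isZero_mappingCocone _ i (i + -1) rfl (z3 i (z1 i hi)) (z4 _ (z1 _ (by lia)))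
    have hF1 : F.IsStrictlyGE (l + 1) := by
      rw [isStrictlyGE_iff]
      exact fun i hi => isZero_kernel_fst _ i (i + -1) rfl (z4 _ (z1 _ (by lia)))
    have hF2 : F.IsStrictlyLE (u + 1) := by
      rw [isStrictlyLE_iff]
      exact fun i hi => isZero_kernel_fst _ i (i + -1) rfl (z4 _ (z2 _ (by lia)))
    have hN1 : (X.usC.obj Y).IsStrictlyGE l := by
      rw [isStrictlyGE_iff]
      exact fun i hi => X.us.map_isZero (z1 i hi)
    have hN2 : (X.usC.obj Y).IsStrictlyLE u := by
      rw [isStrictlyLE_iff]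
      exact fun i hi => X.us.map_isZero (z2 i hi)
    -- the three terms
    have s1 : 𝒮.S _ (actK X TC c K k hk r F j) := ih F (l + 1) (u + 1) hF1 hF2 j (by push_cast at hj; lia)
    have s3 : 𝒮.S _ (actK X TC c K k hk r Y' j) := hul _ l u hN1 hN2 j
    have s2 : 𝒮.S _ (actK X TC c K k hk r M j) := small_mid c hk 𝒮 hr hK hS' j s1 s3
    have hq : QuasiIso ((TC.map₂CochainComplex.flip.obj K).map κ) :=
      quasiIso_total_chart X TC c κ K l a hK
    have hi : IsIso (homologyMap ((TC.map₂CochainComplex.flip.obj K).map κ) j) := inferInstance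
    exact (small_iff_of_isIso hk 𝒮 κ j).2 s2

end Groth.Agent.ResProp.EF.K409
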