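import Groth.Agent.ResProp.EF.K409.Ind

/-!
# The action of `P` on `us H^j(Y ⊗ K)` and smallness, from a roof (c4 of F5)

`exists_action`: `Kc ⟵ W ⟶ K` quasi-isomorphisms, `K` bounded with `us K^n` flat, `Kc` bounded with an action of `P` on
`us Kc` by chain maps and small terms. Then `P` acts on `us H^j(Y ⊗ K)`, naturally in `Y`, and for bounded `Y` all of
these are small.
-/

set_option autoImplicit false
set_option backward.defeqAttrib.useBackward true
set_option backward.isDefEq.respectTransparency false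

universe w v u

open CategoryTheory CategoryTheory.Limits MonoidalCategory HomologicalComplex

namespace Groth.Agent.ResProp.EF.K409

open Groth.Agent.ResProp.EF.K294 Groth.Agent.PerfB.RingKFlat Groth.Agent.PerfB Groth.Agent.ResProp.EF.K744
  Groth.Agent.ResProp.EF.K110 Groth.Agent.Dcoh.KFlatAbs Groth.Agent.PerfB.KProjTop Groth.Agent.Cohder.CoconeSES
  CochainComplex

variable {A : Type u} [CommRing A] {C : Type v} [Category.{w} C] [Abelian C] {X : Chart A C}
  {P : Type u} [CommRing P] [Algebra A P]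
  {TC : C ⥤ C ⥤ C} {c : BifCompare.Data TC (TR A) X.us X.us X.us}
  [TC.Additive] [∀ M, (TC.obj M).Additive]
  [∀ K L : CochainComplex C ℤ, CochainComplex.HasMapBifunctor K L TC]

include c in
lemma quasiIso_left (Y : CochainComplex C ℤ) (hY : KFl (TR A) (X.usC.obj Y)) {E E' : CochainComplex C ℤ}
    (φ : E ⟶ E') [QuasiIso φ] : QuasiIso ((TC.map₂CochainComplex.obj Y).map φ) := by
  refine quasiIso_of_usC (X := X) _ ?_
  have h0 : QuasiIso (X.usC.map φ) := quasiIso_usC φ
  have h1 : QuasiIso ((tensL (X.usC.obj Y)).map (X.usC.map φ)) :=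
    K226.KFlat.quasiIso_whiskerLeft hY (X.usC.map φ)
  rw [← oneT_map (X := X) (TC := TC) (c := c) Y φ, oneT]
  infer_instance

include c in
lemma quasiIso_right (K : CochainComplex C ℤ) (hK : KFl (TR A) (X.usC.obj K)) {Y Y' : CochainComplex C ℤ}
    (f : Y ⟶ Y') [QuasiIso f] : QuasiIso ((TC.map₂CochainComplex.flip.obj K).map f) := by
  refine quasiIso_of_usC (X := X) _ ?_
  have h0 : QuasiIso (X.usC.map f) := quasiIso_usC f
  have h1 : QuasiIso ((tensR (X.usC.obj K)).map (X.usC.map f)) := hK.quasiIso (X.usC.map f)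
  have h2 : X.usC.map ((TC.map₂CochainComplex.flip.obj K).map f) =
      ((totalIso X TC c K).hom.app Y ≫ (tensR (X.usC.obj K)).map (X.usC.map f)) ≫
        (totalIso X TC c K).inv.app Y' := by
    have h3 := (totalIso X TC c K).hom.naturality f
    exact (Iso.eq_comp_inv ((totalIso X TC c K).app Y')).2 h3
  rw [h2]
  infer_instance

lemma kfl_us_ul (L : CM A) (b : ℤ) [L.IsStrictlyLE b] (hL : ∀ n, Projective (L.X n)) :
    KFl (TR A) (X.usC.obj (X.ulC.obj L)) := by
  refine Groth.Agent.Htor.H240.FlatTens.kfl _ (fun n => ?_) (b := b) (fun i hi => ?_)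
  · have := hL n
    have h1 : Module.Projective A (L.X n) := inferInstance
    exact X.flat_us_ul (L.X n) inferInstance
  · exact X.us.map_isZero (X.ul.map_isZero (L.isZero_of_isStrictlyLE b i hi))

/-- **(c4)** -/
theorem exists_action (𝒮 : SmallTh X P TC c) {K Kc W : CochainComplex C ℤ} (s : W ⟶ Kc) (t : W ⟶ K)
    [QuasiIso s] [QuasiIso t] (a b : ℤ) [K.IsStrictlyGE a] [K.IsStrictlyLE b]
    (hK : ∀ n : ℤ, Module.Flat A (X.us.obj (K.X n))) (a' b' : ℤ) [Kc.IsStrictlyGE a'] [Kc.IsStrictlyLE b']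
    (ρ : P → (X.usC.obj Kc ⟶ X.usC.obj Kc)) (hρ : ∀ n, 𝒮.S (Kc.X n) (fun p => (ρ p).f n)) :
    ∃ act : ∀ (Y : CochainComplex C ℤ) (j : ℤ), P →
        (X.us.obj (((TC.map₂CochainComplex.flip.obj K).obj Y).homology j) ⟶
          X.us.obj (((TC.map₂CochainComplex.flip.obj K).obj Y).homology j)),
      (∀ (Y Y' : CochainComplex C ℤ) (f : Y ⟶ Y') (j : ℤ) (p : P),
        act Y j p ≫ X.us.map (homologyMap ((TC.map₂CochainComplex.flip.obj K).map f) j) =
          X.us.map (homologyMap ((TC.map₂CochainComplex.flip.obj K).map f) j) ≫ act Y' j p) ∧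
      ∀ (Y : CochainComplex C ℤ) (l u : ℤ), Y.IsStrictlyGE l → Y.IsStrictlyLE u → ∀ j, 𝒮.S _ (act Y j) := by
  -- the resolution
  have hKb : (X.usC.obj K).IsStrictlyLE b := by
    rw [isStrictlyLE_iff]
    exact fun i hi => X.us.map_isZero (K.isZero_of_isStrictlyLE b i hi)
  have hs : QuasiIso (X.usC.map s) := quasiIso_usC s
  have ht : QuasiIso (X.usC.map t) := quasiIso_usC t
  have hWb : (X.usC.obj W).IsLE b := by
    rw [isLE_iff]
    intro i hi
    rw [exactAt_iff_of_quasiIsoAt (X.usC.map t) i]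
    exact exactAt_of_isZero_X ((X.usC.obj K).isZero_of_isStrictlyLE b i hi)
  obtain ⟨L, m, hLb, hLp, hm⟩ :=
    Groth.Agent.Dcoh.LeftRes.exists_resolution_of_isLE (goodClass_projective A) (X.usC.obj W) b
  have hLK : L.IsKProjective := isKProjective_of_projective L b
  obtain ⟨r, hr, hrρ⟩ := exists_hact (m ≫ X.usC.map s) ρ (fun n => 𝒮.act _ _ (hρ n))
  -- K-flatness
  have hLf : KFl (TR A) L := by
    refine Groth.Agent.Htor.H240.FlatTens.kfl _ (fun n => ?_) (b := b) (fun i hi => ?_)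
    · have h1 : Module.Projective A (L.X n) := inferInstance
      exact inferInstanceAs (Module.Flat A (L.X n))
    · exact L.isZero_of_isStrictlyLE b i hi
  have hKf : KFl (TR A) (X.usC.obj K) :=
    Groth.Agent.Htor.H240.FlatTens.kfl _ (fun n => hK n) (b := b)
      (fun i hi => (X.usC.obj K).isZero_of_isStrictlyLE b i hi)
  have hk : ∀ Y j, IsIso (gam X TC c Y K (m ≫ X.usC.map t) j) := fun Y j => isIso_gam hLf hKf _ Y j
  refine ⟨fun Y j => actK X TC c K (m ≫ X.usC.map t) hk r Y j, fun Y Y' f j p => actK_nat hk f j p,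
    fun Y l u hl hu j => ?_⟩
  refine small_all hk 𝒮 hr hK a ?_ (j - l - a + 1).toNat Y l u hl hu j (by omega)
  intro N l u hl hu j
  obtain ⟨LN, q, hLNb, hLNp, hq⟩ :=
    Groth.Agent.Dcoh.LeftRes.exists_resolution_of_isLE (goodClass_projective A) N u
  let Y₀ : CochainComplex C ℤ := X.ulC.obj LN
  have hY₀ : KFl (TR A) (X.usC.obj Y₀) := kfl_us_ul LN u hLNp
  have q1 : QuasiIso ((TC.map₂CochainComplex.obj Y₀).map s) := quasiIso_left (c := c) Y₀ hY₀ s
  have q2 : QuasiIso ((TC.map₂CochainComplex.obj Y₀).map t) := quasiIso_left (c := c) Y₀ hY₀ t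
  have i1 : IsIso (homologyMap ((TC.map₂CochainComplex.obj Y₀).map s) j) := inferInstance
  have i2 : IsIso (homologyMap ((TC.map₂CochainComplex.obj Y₀).map t) j) := inferInstance
  have s1 : Sm 𝒮 r Y₀ Kc (m ≫ X.usC.map s) j := Sm.base 𝒮 r Y₀ Kc a' b' _ ρ hρ hrρ j
  have s2 : Sm 𝒮 r Y₀ W m j := Sm.of_map s s1
  have s3 : Sm 𝒮 r Y₀ K (m ≫ X.usC.map t) j := Sm.map t s2
  have s4 := small_of_sm hk 𝒮 s3
  have hul : PreservesFiniteLimits X.ul := by
    have := X.adj.rightAdjoint_preservesLimits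
    infer_instance
  have q3 : QuasiIso (X.ulC.map q) := inferInstance
  have q4 : QuasiIso ((TC.map₂CochainComplex.flip.obj K).map (X.ulC.map q)) := quasiIso_right (c := c) K hKf _
  have i4 : IsIso (homologyMap ((TC.map₂CochainComplex.flip.obj K).map (X.ulC.map q)) j) := inferInstance
  exact (small_iff_of_isIso hk 𝒮 (X.ulC.map q) j).1 s4

end Groth.Agent.ResProp.EF.K409
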