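import Groth.Agent.ResProp.EF.X56.NF

/-!
# Smallness on the groupoid side (c4 of F5), elementwise

`A → D` a morphism of groupoid rings (`D⟨n⟩` the algebra of the cover), `P` a set of operators with `σ : P → D⟨0⟩`.
For a cartesian `M : PM A` with operators `ρ : P → End M⟨0⟩`, `SmallLen m M ρ`: a filtration of length `m` by
submodules stable under `P` and under the groupoid, on whose graded pieces the coaction is `D`-semilinear.
Closure: middle terms of exact sequences, modules generated by the images of small ones, tensor products.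
-/

set_option autoImplicit false
set_option linter.dupNamespace false
set_option linter.style.haveILetI false

open CategoryTheory Opposite

namespace Groth.Agent.ResProp.EF.K409

open K784.BC K784.PM EF56

universe w₁ w₂ w₃ w p v u

/-- a morphism of presheaves of modules -/
structure PHom {A : NFᵒᵖ ⥤ CommRingCat.{u}} (M : PM.{w₁} A) (N : PM.{w₂} A) where
  app : ∀ a : NF, M.obj a →ₗ[A.obj (op a)] N.obj a
  nat : ∀ {a b : NF} (φ : a ⟶ b) (x : M.obj b), app a (M.map φ x) = N.map φ (app b x)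

section Up

variable {A : NFᵒᵖ ⥤ CommRingCat.{u}} (M : PM.{w₁} A)

/-- the submodule of `M⟨1⟩` generated by a submodule of `M⟨0⟩` through the first vertex -/
def up (W : Submodule (A.obj (op ⟨0⟩)) (M.obj ⟨0⟩)) : Submodule (A.obj (op ⟨1⟩)) (M.obj ⟨1⟩) :=
  Submodule.span _ (M.map (pr ⟨0⟩) '' W)

variable {M}

theorem map_mem_up {W : Submodule (A.obj (op ⟨0⟩)) (M.obj ⟨0⟩)} {x : M.obj ⟨0⟩} (hx : x ∈ W) :
    M.map (pr ⟨0⟩) x ∈ up M W := Submodule.subset_span ⟨x, hx, rfl⟩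

theorem up_mono {W W' : Submodule (A.obj (op ⟨0⟩)) (M.obj ⟨0⟩)} (h : W ≤ W') : up M W ≤ up M W' :=
  Submodule.span_mono (Set.image_mono h)

theorem up_le {W : Submodule (A.obj (op ⟨0⟩)) (M.obj ⟨0⟩)} {V : Submodule (A.obj (op ⟨1⟩)) (M.obj ⟨1⟩)}
    (h : ∀ x ∈ W, M.map (pr ⟨0⟩) x ∈ V) : up M W ≤ V := by
  refine Submodule.span_le.2 ?_
  rintro _ ⟨x, hx, rfl⟩
  exact h x hx

theorem up_top (hM : M.Cart) : up M ⊤ = ⊤ := by
  have h := (hM (pr ⟨0⟩)).span_range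
  rw [← Set.image_univ] at h
  exact h

theorem up_bot : up M ⊥ = ⊥ := by
  rw [up, Submodule.span_eq_bot]
  rintro _ ⟨x, hx, rfl⟩
  rw [(Submodule.mem_bot _).1 hx, map_zero]

/-- `up` commutes with kernels: flatness -/
theorem mem_up_of_map (GA : GR A) (hM : M.Cart) {N : PM.{w₂} A} (hN : N.Cart) (f : PHom M N)
    (W : Submodule (A.obj (op ⟨0⟩)) (N.obj ⟨0⟩)) {x : M.obj ⟨1⟩} (hx : f.app ⟨1⟩ x ∈ up N W) :
    x ∈ up M (W.comap (f.app ⟨0⟩)) := by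
  letI := (rg A (pr ⟨0⟩)).toAlgebra
  have hff : (rg A (pr ⟨0⟩)).FaithfullyFlat := GA.ff ⟨0⟩
  haveI : Module.FaithfullyFlat (A.obj (op ⟨0⟩)) (A.obj (op ⟨1⟩)) := hff
  letI i1 : Module (A.obj (op ⟨0⟩)) (M.obj ⟨1⟩) := Module.compHom _ (rg A (pr ⟨0⟩))
  haveI : IsScalarTower (A.obj (op ⟨0⟩)) (A.obj (op ⟨1⟩)) (M.obj ⟨1⟩) :=
    ⟨fun a b n => mul_smul (rg A (pr ⟨0⟩) a) b n⟩
  letI i2 : Module (A.obj (op ⟨0⟩)) (N.obj ⟨1⟩) := Module.compHom _ (rg A (pr ⟨0⟩))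
  haveI : IsScalarTower (A.obj (op ⟨0⟩)) (A.obj (op ⟨1⟩)) (N.obj ⟨1⟩) :=
    ⟨fun a b n => mul_smul (rg A (pr ⟨0⟩) a) b n⟩
  let mM : M.obj ⟨0⟩ →ₗ[A.obj (op ⟨0⟩)] M.obj ⟨1⟩ :=
    { (M.map (pr ⟨0⟩)) with map_smul' := (hM (pr ⟨0⟩)).map_smul }
  let mN : N.obj ⟨0⟩ →ₗ[A.obj (op ⟨0⟩)] N.obj ⟨1⟩ :=
    { (N.map (pr ⟨0⟩)) with map_smul' := (hN (pr ⟨0⟩)).map_smul }
  have bM : IsBaseChange (A.obj (op ⟨1⟩)) mM := (hM (pr ⟨0⟩)).choose_spec
  have bN : IsBaseChange (A.obj (op ⟨1⟩)) mN := (hN (pr ⟨0⟩)).choose_spec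
  -- the map to the quotient
  let q : M.obj ⟨0⟩ →ₗ[A.obj (op ⟨0⟩)] (N.obj ⟨0⟩ ⧸ W) := W.mkQ.comp (f.app ⟨0⟩)
  obtain ⟨y, rfl⟩ := bM.equiv.surjective x
  -- base change of the exact sequence `comap → M → N/W`
  have hex : Function.Exact (W.comap (f.app ⟨0⟩)).subtype q := by
    intro z
    rw [Set.mem_range]
    constructor
    · intro hz
      exact ⟨⟨z, (Submodule.Quotient.mk_eq_zero W).1 hz⟩, rfl⟩
    · rintro ⟨z, rfl⟩
      exact (Submodule.Quotient.mk_eq_zero W).2 z.2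
  have hex' := Module.Flat.lTensor_exact (A.obj (op ⟨1⟩)) hex
  have key : ∀ z : TensorProduct (A.obj (op ⟨0⟩)) (A.obj (op ⟨1⟩)) (M.obj ⟨0⟩),
      bN.equiv (((f.app ⟨0⟩).lTensor (A.obj (op ⟨1⟩))) z) = f.app ⟨1⟩ (bM.equiv z) := by
    intro z
    induction z using TensorProduct.induction_on with
    | zero => simp
    | tmul r m =>
      rw [LinearMap.lTensor_tmul, bN.equiv_tmul, bM.equiv_tmul, map_smul]
      congr 1
      exact (f.nat (pr ⟨0⟩) m).symm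
    | add a b ha hb => rw [map_add, map_add, ha, hb, map_add, map_add]
  have hup : ∀ z : TensorProduct (A.obj (op ⟨0⟩)) (A.obj (op ⟨1⟩)) (N.obj ⟨0⟩), bN.equiv z ∈ up N W →
      (W.mkQ.lTensor (A.obj (op ⟨1⟩))) z = 0 := by
    intro z hz
    have h1 : ∀ v ∈ up N W, (W.mkQ.lTensor (A.obj (op ⟨1⟩))) (bN.equiv.symm v) = 0 := by
      intro v hv
      induction hv using Submodule.span_induction with
      | mem v hv =>
        obtain ⟨w, hw, rfl⟩ := hv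
        have : bN.equiv.symm (N.map (pr ⟨0⟩) w) = 1 ⊗ₜ w := by
          rw [LinearEquiv.symm_apply_eq, bN.equiv_tmul, one_smul]
          rfl
        rw [this, LinearMap.lTensor_tmul]
        have h2 : W.mkQ w = 0 := (Submodule.Quotient.mk_eq_zero W).2 hw
        rw [h2, TensorProduct.tmul_zero]
      | zero => simp
      | add a b _ _ ha hb => rw [map_add, map_add, ha, hb, add_zero]
      | smul r a _ ha =>
        rw [map_smul]
        have := ((W.mkQ).baseChange (A.obj (op ⟨1⟩))).map_smul r (bN.equiv.symm a)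
        change ((W.mkQ).baseChange (A.obj (op ⟨1⟩))) (r • bN.equiv.symm a) = 0
        rw [this]
        change r • (W.mkQ.lTensor (A.obj (op ⟨1⟩))) (bN.equiv.symm a) = 0
        rw [ha, smul_zero]
    have := h1 _ hz
    rwa [LinearEquiv.symm_apply_apply] at this
  have h3 : (q.lTensor (A.obj (op ⟨1⟩))) y = 0 := by
    have : (q.lTensor (A.obj (op ⟨1⟩))) y = (W.mkQ.lTensor (A.obj (op ⟨1⟩))) (((f.app ⟨0⟩).lTensor (A.obj (op ⟨1⟩))) y) := by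
      rw [← LinearMap.comp_apply, ← LinearMap.lTensor_comp]
    rw [this]
    refine hup _ ?_
    rw [key]
    exact hx
  have h4 : ∀ z, bM.equiv (((W.comap (f.app ⟨0⟩)).subtype.lTensor (A.obj (op ⟨1⟩))) z) ∈ up M (W.comap (f.app ⟨0⟩)) := by
    intro z
    induction z using TensorProduct.induction_on with
    | zero => simp
    | tmul r m =>
      rw [LinearMap.lTensor_tmul, bM.equiv_tmul]
      exact Submodule.smul_mem _ _ (map_mem_up m.2)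
    | add a b ha hb =>
      rw [map_add, map_add]
      exact Submodule.add_mem _ ha hb
  obtain ⟨z, rfl⟩ := (hex' y).1 h3
  exact h4 z

/-- `up` of an image -/
theorem app_mem_up {N : PM.{w₂} A} (f : PHom M N) {W : Submodule (A.obj (op ⟨0⟩)) (M.obj ⟨0⟩)}
    {W' : Submodule (A.obj (op ⟨0⟩)) (N.obj ⟨0⟩)} (h : ∀ x ∈ W, f.app ⟨0⟩ x ∈ W') {x : M.obj ⟨1⟩} (hx : x ∈ up M W) :
    f.app ⟨1⟩ x ∈ up N W' := by
  have : up M W ≤ (up N W').comap (f.app ⟨1⟩) := by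
    refine up_le fun x hx => ?_
    change f.app ⟨1⟩ (M.map (pr ⟨0⟩) x) ∈ up N W'
    rw [f.nat]
    exact map_mem_up (h x hx)
  exact this hx

end Up

/-! ### operators -/

section Ops

variable {A D : NFᵒᵖ ⥤ CommRingCat.{u}} (j : A ⟶ D) {P : Type p} (σ : P → D.obj (op ⟨0⟩))

/-- the value in `D⟨1⟩` of a formal combination -/
noncomputable def valx (t : P →₀ A.obj (op ⟨1⟩)) : D.obj (op ⟨1⟩) :=
  t.sum fun q r => (j.app (op ⟨1⟩)).hom r * rg D (pr ⟨0⟩) (σ q)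

variable {M : PM.{w₁} A} (hM : M.Cart) (ρ : P → (M.obj ⟨0⟩ →ₗ[A.obj (op ⟨0⟩)] M.obj ⟨0⟩))

/-- the operator on `M⟨1⟩` of a formal combination, acting through the first vertex -/
noncomputable def opx (t : P →₀ A.obj (op ⟨1⟩)) : M.obj ⟨1⟩ →ₗ[A.obj (op ⟨1⟩)] M.obj ⟨1⟩ :=
  t.sum fun q r => r • PM.pl hM (pr ⟨0⟩) (ρ q)

theorem opx_apply (t : P →₀ A.obj (op ⟨1⟩)) (x : M.obj ⟨1⟩) :
    opx hM ρ t x = t.sum fun q r => r • PM.pl (M := M) hM (pr ⟨0⟩) (ρ q) x := by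
  rw [opx, Finsupp.sum, LinearMap.sum_apply]
  rfl

theorem opx_map (t : P →₀ A.obj (op ⟨1⟩)) (x : M.obj ⟨0⟩) :
    opx hM ρ t (M.map (pr ⟨0⟩) x) = t.sum fun q r => r • M.map (pr ⟨0⟩) (ρ q x) := by
  rw [opx_apply]
  refine Finset.sum_congr rfl fun q _ => ?_
  change t q • PM.pl (M := M) hM (pr ⟨0⟩) (ρ q) (M.map (pr ⟨0⟩) x) = t q • M.map (pr ⟨0⟩) (ρ q x)
  rw [PM.pl_apply]

/-- `opx` respects `up W` for stable `W` -/
theorem opx_mem_up {W W' : Submodule (A.obj (op ⟨0⟩)) (M.obj ⟨0⟩)} (h : ∀ q, ∀ x ∈ W, ρ q x ∈ W')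
    (t : P →₀ A.obj (op ⟨1⟩)) {x : M.obj ⟨1⟩} (hx : x ∈ up M W) : opx hM ρ t x ∈ up M W' := by
  have : up M W ≤ (up M W').comap (opx hM ρ t) := by
    refine up_le fun x hx => ?_
    change opx hM ρ t (M.map (pr ⟨0⟩) x) ∈ up M W'
    rw [opx_map]
    exact Submodule.sum_mem _ fun q _ => Submodule.smul_mem _ _ (map_mem_up (h q x hx))
  exact this hx

variable {ρ}

/-- equivariant maps commute with `opx` -/
theorem app_opx {N : PM.{w₂} A} (hN : N.Cart) {ρ' : P → (N.obj ⟨0⟩ →ₗ[A.obj (op ⟨0⟩)] N.obj ⟨0⟩)} (f : PHom M N)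
    (hf : ∀ q x, f.app ⟨0⟩ (ρ q x) = ρ' q (f.app ⟨0⟩ x)) (t : P →₀ A.obj (op ⟨1⟩)) (x : M.obj ⟨1⟩) :
    f.app ⟨1⟩ (opx hM ρ t x) = opx hN ρ' t (f.app ⟨1⟩ x) := by
  have : (f.app ⟨1⟩).comp (opx hM ρ t) = (opx hN ρ' t).comp (f.app ⟨1⟩) := by
    refine (hM (pr ⟨0⟩)).hom_ext fun m => ?_
    rw [LinearMap.comp_apply, LinearMap.comp_apply, opx_map, f.nat, opx_map, map_finsuppSum]
    refine Finset.sum_congr rfl fun q _ => ?_
    change f.app ⟨1⟩ (t q • M.map (pr ⟨0⟩) (ρ q m)) = t q • N.map (pr ⟨0⟩) (ρ' q (f.app ⟨0⟩ m))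
    rw [map_smul, f.nat, hf]
  exact LinearMap.congr_fun this x

end Ops

/-! ### small modules -/

section Small

variable {A D : NFᵒᵖ ⥤ CommRingCat.{u}} (j : A ⟶ D) {P : Type p} (σ : P → D.obj (op ⟨0⟩))

/-- **smallness of length `m`** -/
structure SmallFil (m : ℕ) (M : PM.{w} A) (hM : M.Cart) (ρ : P → (M.obj ⟨0⟩ →ₗ[A.obj (op ⟨0⟩)] M.obj ⟨0⟩))
    (F : ℕ → Submodule (A.obj (op ⟨0⟩)) (M.obj ⟨0⟩)) : Prop where
  zero : F 0 = ⊤
  last : F m = ⊥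
  anti : ∀ n, F (n + 1) ≤ F n
  pstab : ∀ n q, ∀ x ∈ F n, ρ q x ∈ F n
  gstab : ∀ n, ∀ x ∈ F n, M.map (lst ⟨0⟩) x ∈ up M (F n)
  ker : ∀ n q, σ q = 0 → ∀ x ∈ F n, ρ q x ∈ F (n + 1)
  semi : ∀ n q t, valx j σ t = rg D (lst ⟨0⟩) (σ q) → ∀ x ∈ F n,
    M.map (lst ⟨0⟩) (ρ q x) - opx hM ρ t (M.map (lst ⟨0⟩) x) ∈ up M (F (n + 1))

/-- **smallness of length `m`** -/
def SmallLen (m : ℕ) (M : PM.{w} A) (hM : M.Cart) (ρ : P → (M.obj ⟨0⟩ →ₗ[A.obj (op ⟨0⟩)] M.obj ⟨0⟩)) : Prop :=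
  ∃ F : ℕ → Submodule (A.obj (op ⟨0⟩)) (M.obj ⟨0⟩), SmallFil j σ m M hM ρ F

variable {j σ}

theorem SmallFil.antitone {m : ℕ} {M : PM.{w} A} {hM : M.Cart}
    {ρ : P → (M.obj ⟨0⟩ →ₗ[A.obj (op ⟨0⟩)] M.obj ⟨0⟩)} {F : ℕ → Submodule (A.obj (op ⟨0⟩)) (M.obj ⟨0⟩)}
    (h : SmallFil j σ m M hM ρ F) : Antitone F := antitone_nat_of_succ_le h.anti

theorem SmallFil.eq_bot {m : ℕ} {M : PM.{w} A} {hM : M.Cart}
    {ρ : P → (M.obj ⟨0⟩ →ₗ[A.obj (op ⟨0⟩)] M.obj ⟨0⟩)} {F : ℕ → Submodule (A.obj (op ⟨0⟩)) (M.obj ⟨0⟩)}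
    (h : SmallFil j σ m M hM ρ F) {n : ℕ} (hn : m ≤ n) : F n = ⊥ :=
  eq_bot_iff.2 (h.last ▸ h.antitone hn)

theorem SmallLen.mono {m m' : ℕ} (hm : m ≤ m') {M : PM.{w} A} {hM : M.Cart}
    {ρ : P → (M.obj ⟨0⟩ →ₗ[A.obj (op ⟨0⟩)] M.obj ⟨0⟩)} (h : SmallLen j σ m M hM ρ) : SmallLen j σ m' M hM ρ := by
  obtain ⟨F, h⟩ := h
  exact ⟨F, h.zero, h.eq_bot hm, h.anti, h.pstab, h.gstab, h.ker, h.semi⟩

/-- middle terms of exact sequences -/
theorem SmallLen.mid (GA : GR A) {m₁ m₂ : ℕ} {M₁ : PM.{w₁} A} {M₂ : PM.{w₂} A} {M₃ : PM.{w₃} A} {h₁ : M₁.Cart}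
    {h₂ : M₂.Cart} {h₃ : M₃.Cart} {ρ₁ : P → (M₁.obj ⟨0⟩ →ₗ[A.obj (op ⟨0⟩)] M₁.obj ⟨0⟩)}
    {ρ₂ : P → (M₂.obj ⟨0⟩ →ₗ[A.obj (op ⟨0⟩)] M₂.obj ⟨0⟩)} {ρ₃ : P → (M₃.obj ⟨0⟩ →ₗ[A.obj (op ⟨0⟩)] M₃.obj ⟨0⟩)}
    (f : PHom M₁ M₂) (g : PHom M₂ M₃) (hf : ∀ q x, f.app ⟨0⟩ (ρ₁ q x) = ρ₂ q (f.app ⟨0⟩ x))
    (hg : ∀ q x, g.app ⟨0⟩ (ρ₂ q x) = ρ₃ q (g.app ⟨0⟩ x)) (hfg : ∀ x, g.app ⟨0⟩ (f.app ⟨0⟩ x) = 0)
    (hex : ∀ x, g.app ⟨0⟩ x = 0 → ∃ y, f.app ⟨0⟩ y = x)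
    (s₁ : SmallLen j σ m₁ M₁ h₁ ρ₁) (s₃ : SmallLen j σ m₂ M₃ h₃ ρ₃) : SmallLen j σ (m₂ + m₁) M₂ h₂ ρ₂ := by
  obtain ⟨F₁, s₁⟩ := s₁
  obtain ⟨F₃, s₃⟩ := s₃
  let F : ℕ → Submodule (A.obj (op ⟨0⟩)) (M₂.obj ⟨0⟩) := fun n =>
    if n < m₂ then (F₃ n).comap (g.app ⟨0⟩) else (F₁ (n - m₂)).map (f.app ⟨0⟩)
  have e1 : ∀ n, n < m₂ → F n = (F₃ n).comap (g.app ⟨0⟩) := fun n hn => if_pos hn
  have e2 : ∀ n, F (m₂ + n) = (F₁ n).map (f.app ⟨0⟩) := fun n => by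
    change (if m₂ + n < m₂ then _ else _) = _
    rw [if_neg (by omega), Nat.add_sub_cancel_left]
  have hker : LinearMap.ker (g.app ⟨0⟩) = LinearMap.range (f.app ⟨0⟩) := by
    ext x
    rw [LinearMap.mem_ker, LinearMap.mem_range]
    exact ⟨hex x, by rintro ⟨y, rfl⟩; exact hfg y⟩
  have e3 : F m₂ = (F₃ m₂).comap (g.app ⟨0⟩) := by
    have := e2 0
    rw [add_zero] at this
    rw [this, s₁.zero, Submodule.map_top, ← hker, s₃.last]
    rfl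
  have e4 : ∀ n, n ≤ m₂ → F n = (F₃ n).comap (g.app ⟨0⟩) := fun n hn => by
    rcases hn.lt_or_eq with h | h
    · exact e1 n h
    · subst h; exact e3
  refine ⟨F, ?_, ?_, ?_, ?_, ?_, ?_, ?_⟩
  · rw [e4 0 (Nat.zero_le _), s₃.zero, Submodule.comap_top]
  · rw [e2, s₁.last, Submodule.map_bot]
  · intro n
    rcases lt_or_ge n m₂ with h | h
    · rw [e1 n h, e4 (n + 1) h]
      exact Submodule.comap_mono (s₃.anti n)
    · obtain ⟨k, rfl⟩ := Nat.exists_eq_add_of_le h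
      rw [e2, add_assoc, e2]
      exact Submodule.map_mono (s₁.anti k)
  · intro n q x hx
    rcases lt_or_ge n m₂ with h | h
    · rw [e1 n h, Submodule.mem_comap] at hx ⊢
      rw [hg]
      exact s₃.pstab n q _ hx
    · obtain ⟨k, rfl⟩ := Nat.exists_eq_add_of_le h
      rw [e2] at hx ⊢
      obtain ⟨y, hy, rfl⟩ := hx
      exact ⟨ρ₁ q y, s₁.pstab k q y hy, hf q y⟩
  · intro n x hx
    rcases lt_or_ge n m₂ with h | h
    · rw [e1 n h] at hx ⊢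
      refine mem_up_of_map GA h₂ h₃ g _ ?_
      rw [g.nat]
      exact s₃.gstab n _ hx
    · obtain ⟨k, rfl⟩ := Nat.exists_eq_add_of_le h
      rw [e2] at hx ⊢
      obtain ⟨y, hy, rfl⟩ := hx
      rw [← f.nat]
      exact app_mem_up f (fun z hz => Submodule.mem_map_of_mem hz) (s₁.gstab k y hy)
  · intro n q hq x hx
    rcases lt_or_ge n m₂ with h | h
    · rw [e1 n h] at hx
      rw [e4 (n + 1) h, Submodule.mem_comap, hg]
      exact s₃.ker n q hq _ hx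
    · obtain ⟨k, rfl⟩ := Nat.exists_eq_add_of_le h
      rw [e2] at hx
      rw [add_assoc, e2]
      obtain ⟨y, hy, rfl⟩ := hx
      exact ⟨ρ₁ q y, s₁.ker k q hq y hy, hf q y⟩
  · intro n q t ht x hx
    rcases lt_or_ge n m₂ with h | h
    · rw [e1 n h] at hx
      rw [e4 (n + 1) h]
      refine mem_up_of_map GA h₂ h₃ g _ ?_
      rw [map_sub, g.nat, hg, app_opx h₂ h₃ g hg, g.nat]
      exact s₃.semi n q t ht _ hx
    · obtain ⟨k, rfl⟩ := Nat.exists_eq_add_of_le h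
      rw [e2] at hx
      rw [add_assoc, e2]
      obtain ⟨y, hy, rfl⟩ := hx
      rw [← hf, ← f.nat, ← f.nat, ← app_opx h₁ h₂ f hf, ← map_sub]
      exact app_mem_up f (fun z hz => Submodule.mem_map_of_mem hz) (s₁.semi k q t ht y hy)

/-- modules generated by the images of small ones -/
theorem SmallLen.of_gen {m : ℕ} {I : Type v} {N : I → PM.{w₁} A} {hN : ∀ i, (N i).Cart} {M : PM.{w} A} {hM : M.Cart}
    {ρ' : ∀ i, P → ((N i).obj ⟨0⟩ →ₗ[A.obj (op ⟨0⟩)] (N i).obj ⟨0⟩)}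
    {ρ : P → (M.obj ⟨0⟩ →ₗ[A.obj (op ⟨0⟩)] M.obj ⟨0⟩)} (f : ∀ i, PHom (N i) M)
    (hf : ∀ i q x, (f i).app ⟨0⟩ (ρ' i q x) = ρ q ((f i).app ⟨0⟩ x))
    (htop : ⨆ i, LinearMap.range ((f i).app ⟨0⟩) = ⊤) (s : ∀ i, SmallLen j σ m (N i) (hN i) (ρ' i)) :
    SmallLen j σ m M hM ρ := by
  choose F hF using s
  let G : ℕ → Submodule (A.obj (op ⟨0⟩)) (M.obj ⟨0⟩) := fun n => ⨆ i, (F i n).map ((f i).app ⟨0⟩)
  have hG : ∀ n i, ∀ x ∈ F i n, (f i).app ⟨0⟩ x ∈ G n := fun n i x hx =>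
    Submodule.mem_iSup_of_mem (p := fun i => (F i n).map ((f i).app ⟨0⟩)) i ⟨x, hx, rfl⟩
  -- induction principle
  have ind : ∀ (n : ℕ) (C : M.obj ⟨0⟩ → Prop), (∀ i, ∀ x ∈ F i n, C ((f i).app ⟨0⟩ x)) → C 0 →
      (∀ x y, C x → C y → C (x + y)) → ∀ x ∈ G n, C x := by
    intro n C h1 h2 h3 x hx
    refine Submodule.iSup_induction (motive := C) (fun i => (F i n).map ((f i).app ⟨0⟩)) hx ?_ h2 h3
    rintro i _ ⟨y, hy, rfl⟩
    exact h1 i y hy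
  refine ⟨G, ?_, ?_, ?_, ?_, ?_, ?_, ?_⟩
  · rw [eq_top_iff, ← htop]
    refine iSup_le fun i => ?_
    rintro _ ⟨x, rfl⟩
    refine hG 0 i x ?_
    rw [(hF i).zero]
    trivial
  · rw [eq_bot_iff]
    refine iSup_le fun i => ?_
    rw [(hF i).last, Submodule.map_bot]
  · intro n
    refine iSup_mono fun i => Submodule.map_mono ((hF i).anti n)
  · intro n q
    refine ind n _ (fun i x hx => ?_) ?_ ?_
    · rw [← hf]
      exact hG n i _ ((hF i).pstab n q x hx)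
    · rw [map_zero]; exact zero_mem _
    · intro x y hx hy
      rw [map_add]
      exact add_mem hx hy
  · intro n
    refine ind n _ (fun i x hx => ?_) ?_ ?_
    · rw [← (f i).nat]
      exact app_mem_up (f i) (hG n i) ((hF i).gstab n x hx)
    · rw [map_zero]; exact zero_mem _
    · intro x y hx hy
      rw [map_add]
      exact add_mem hx hy
  · intro n q hq
    refine ind n _ (fun i x hx => ?_) ?_ ?_
    · rw [← hf]
      exact hG (n + 1) i _ ((hF i).ker n q hq x hx)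
    · rw [map_zero]; exact zero_mem _
    · intro x y hx hy
      rw [map_add]
      exact add_mem hx hy
  · intro n q t ht
    refine ind n _ (fun i x hx => ?_) ?_ ?_
    · rw [← hf, ← (f i).nat, ← (f i).nat, ← app_opx (hN i) hM (f i) (hf i), ← map_sub]
      exact app_mem_up (f i) (hG (n + 1) i) ((hF i).semi n q t ht x hx)
    · simp only [map_zero, sub_zero]
      exact zero_mem _
    · intro x y hx hy
      have : M.map (lst ⟨0⟩) (ρ q (x + y)) - opx hM ρ t (M.map (lst ⟨0⟩) (x + y)) =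
          (M.map (lst ⟨0⟩) (ρ q x) - opx hM ρ t (M.map (lst ⟨0⟩) x)) +
          (M.map (lst ⟨0⟩) (ρ q y) - opx hM ρ t (M.map (lst ⟨0⟩) y)) := by
        simp only [map_add]
        abel
      rw [this]
      exact add_mem hx hy

end Small

end Groth.Agent.ResProp.EF.K409
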