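import Groth.Agent.ResProp.EF.K409.SmallG

/-!
# Smallness: tensor products, zero objects, `D`-modules
-/

set_option autoImplicit false
set_option linter.dupNamespace false
set_option linter.style.haveILetI false

open CategoryTheory Opposite

namespace Groth.Agent.ResProp.EF.K409

open K784.BC K784.PM EF56

universe w₁ w₂ w₃ w p v u

/-- a bilinear pairing of presheaves of modules -/
structure PBil {A : NFᵒᵖ ⥤ CommRingCat.{u}} (L : PM.{w₁} A) (M : PM.{w₂} A) (T : PM.{w₃} A) where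
  app : ∀ a : NF, L.obj a →ₗ[A.obj (op a)] M.obj a →ₗ[A.obj (op a)] T.obj a
  nat : ∀ {a b : NF} (φ : a ⟶ b) (x : L.obj b) (y : M.obj b), app a (L.map φ x) (M.map φ y) = T.map φ (app b x y)

section

variable {A D : NFᵒᵖ ⥤ CommRingCat.{u}} {j : A ⟶ D} {P : Type p} {σ : P → D.obj (op ⟨0⟩)}
  {L : PM.{w₁} A} {M : PM.{w₂} A} {T : PM.{w₃} A} (β : PBil L M T)

theorem PBil.mem_up (hL : L.Cart) {W : Submodule (A.obj (op ⟨0⟩)) (M.obj ⟨0⟩)} (x : L.obj ⟨1⟩) {y : M.obj ⟨1⟩}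
    (hy : y ∈ up M W) : β.app ⟨1⟩ x y ∈ up T (Submodule.map₂ (β.app ⟨0⟩) ⊤ W) := by
  have key : ∀ x : L.obj ⟨0⟩, β.app ⟨1⟩ (L.map (pr ⟨0⟩) x) y ∈ up T (Submodule.map₂ (β.app ⟨0⟩) ⊤ W) := by
    intro x
    have : up M W ≤ (up T (Submodule.map₂ (β.app ⟨0⟩) ⊤ W)).comap (β.app ⟨1⟩ (L.map (pr ⟨0⟩) x)) := by
      refine up_le fun y hy => ?_
      change β.app ⟨1⟩ (L.map (pr ⟨0⟩) x) (M.map (pr ⟨0⟩) y) ∈ up T (Submodule.map₂ (β.app ⟨0⟩) ⊤ W)
      rw [β.nat]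
      exact map_mem_up (Submodule.apply_mem_map₂ _ trivial hy)
    exact this hy
  induction x using (hL (pr ⟨0⟩)).induction with
  | zero => simp
  | map m => exact key m
  | smul r n hn =>
    rw [map_smul, LinearMap.smul_apply]
    exact Submodule.smul_mem _ _ hn
  | add a b ha hb =>
    rw [map_add, LinearMap.add_apply]
    exact add_mem ha hb

theorem PBil.app_opx (hL : L.Cart) (hM : M.Cart) (hT : T.Cart) {ρ : P → (M.obj ⟨0⟩ →ₗ[A.obj (op ⟨0⟩)] M.obj ⟨0⟩)}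
    {ρT : P → (T.obj ⟨0⟩ →ₗ[A.obj (op ⟨0⟩)] T.obj ⟨0⟩)} (hρ : ∀ q x y, ρT q (β.app ⟨0⟩ x y) = β.app ⟨0⟩ x (ρ q y))
    (t : P →₀ A.obj (op ⟨1⟩)) (x : L.obj ⟨1⟩) (y : M.obj ⟨1⟩) :
    opx hT ρT t (β.app ⟨1⟩ x y) = β.app ⟨1⟩ x (opx hM ρ t y) := by
  have key : ∀ x : L.obj ⟨0⟩, opx hT ρT t (β.app ⟨1⟩ (L.map (pr ⟨0⟩) x) y) =
      β.app ⟨1⟩ (L.map (pr ⟨0⟩) x) (opx hM ρ t y) := by
    intro x
    have : (opx hT ρT t).comp (β.app ⟨1⟩ (L.map (pr ⟨0⟩) x)) =
        (β.app ⟨1⟩ (L.map (pr ⟨0⟩) x)).comp (opx hM ρ t) := by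
      refine (hM (pr ⟨0⟩)).hom_ext fun m => ?_
      rw [LinearMap.comp_apply, LinearMap.comp_apply, opx_map, β.nat, opx_map, map_finsuppSum]
      refine Finset.sum_congr rfl fun q _ => ?_
      change t q • T.map (pr ⟨0⟩) (ρT q (β.app ⟨0⟩ x m)) =
        β.app ⟨1⟩ (L.map (pr ⟨0⟩) x) (t q • M.map (pr ⟨0⟩) (ρ q m))
      rw [map_smul, β.nat, hρ]
    exact LinearMap.congr_fun this y
  induction x using (hL (pr ⟨0⟩)).induction with
  | zero => simp
  | map m => exact key m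
  | smul r n hn =>
    rw [map_smul, LinearMap.smul_apply, map_smul, hn, LinearMap.smul_apply]
  | add a b ha hb =>
    rw [map_add, LinearMap.add_apply, map_add, ha, hb, LinearMap.add_apply]

/-- tensor products with cartesian modules -/
theorem SmallLen.tens {m : ℕ} (hL : L.Cart) {hM : M.Cart} {hT : T.Cart}
    {ρ : P → (M.obj ⟨0⟩ →ₗ[A.obj (op ⟨0⟩)] M.obj ⟨0⟩)} {ρT : P → (T.obj ⟨0⟩ →ₗ[A.obj (op ⟨0⟩)] T.obj ⟨0⟩)}
    (hρ : ∀ q x y, ρT q (β.app ⟨0⟩ x y) = β.app ⟨0⟩ x (ρ q y))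
    (htop : Submodule.map₂ (β.app ⟨0⟩) ⊤ ⊤ = ⊤) (s : SmallLen j σ m M hM ρ) : SmallLen j σ m T hT ρT := by
  obtain ⟨F, s⟩ := s
  have ind : ∀ (n : ℕ) (C : T.obj ⟨0⟩ → Prop), (∀ x, ∀ y ∈ F n, C (β.app ⟨0⟩ x y)) →
      (∀ x y, C x → C y → C (x + y)) → ∀ z ∈ Submodule.map₂ (β.app ⟨0⟩) ⊤ (F n), C z := by
    intro n C h1 h2 z hz
    refine Submodule.iSup_induction (motive := C)
      (fun x : (⊤ : Submodule (A.obj (op ⟨0⟩)) (L.obj ⟨0⟩)) => (F n).map (β.app ⟨0⟩ x)) hz ?_ ?_ h2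
    · rintro x _ ⟨y, hy, rfl⟩
      exact h1 x y hy
    · have := h1 0 0 (zero_mem _)
      rwa [map_zero] at this
  refine ⟨fun n => Submodule.map₂ (β.app ⟨0⟩) ⊤ (F n), ?_, ?_, ?_, ?_, ?_, ?_, ?_⟩
  · change Submodule.map₂ (β.app ⟨0⟩) ⊤ (F 0) = ⊤
    rw [s.zero, htop]
  · change Submodule.map₂ (β.app ⟨0⟩) ⊤ (F m) = ⊥
    rw [s.last, Submodule.map₂_bot_right]
  · intro n
    exact Submodule.map₂_le_map₂_right (s.anti n)
  · intro n q
    refine ind n _ (fun x y hy => ?_) ?_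
    · rw [hρ]
      exact Submodule.apply_mem_map₂ _ trivial (s.pstab n q y hy)
    · intro x y hx hy
      rw [map_add]
      exact add_mem hx hy
  · intro n
    refine ind n _ (fun x y hy => ?_) ?_
    · rw [← β.nat]
      exact β.mem_up hL _ (s.gstab n y hy)
    · intro x y hx hy
      rw [map_add]
      exact add_mem hx hy
  · intro n q hq
    refine ind n _ (fun x y hy => ?_) ?_
    · rw [hρ]
      exact Submodule.apply_mem_map₂ _ trivial (s.ker n q hq y hy)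
    · intro x y hx hy
      rw [map_add]
      exact add_mem hx hy
  · intro n q t ht
    refine ind n _ (fun x y hy => ?_) ?_
    · rw [hρ, ← β.nat, ← β.nat, β.app_opx hL hM hT hρ, ← map_sub]
      exact β.mem_up hL _ (s.semi n q t ht y hy)
    · intro x y hx hy
      have : T.map (lst ⟨0⟩) (ρT q (x + y)) - opx hT ρT t (T.map (lst ⟨0⟩) (x + y)) =
          (T.map (lst ⟨0⟩) (ρT q x) - opx hT ρT t (T.map (lst ⟨0⟩) x)) +
          (T.map (lst ⟨0⟩) (ρT q y) - opx hT ρT t (T.map (lst ⟨0⟩) y)) := by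
        simp only [map_add]
        abel
      rw [this]
      exact add_mem hx hy

/-- zero objects -/
theorem SmallLen.of_subsingleton (hM : M.Cart) (ρ : P → (M.obj ⟨0⟩ →ₗ[A.obj (op ⟨0⟩)] M.obj ⟨0⟩))
    [Subsingleton (M.obj ⟨0⟩)] (m : ℕ) : SmallLen j σ m M hM ρ := by
  refine ⟨fun _ => ⊥, Subsingleton.elim _ _, rfl, fun _ => le_rfl, ?_, ?_, ?_, ?_⟩
  · intro n q x _
    rw [Subsingleton.elim (ρ q x) 0]; exact zero_mem _
  · intro n x _
    rw [Subsingleton.elim x 0, map_zero]; exact zero_mem _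
  · intro n q _ x _
    rw [Subsingleton.elim (ρ q x) 0]; exact zero_mem _
  · intro n q t _ x _
    rw [Subsingleton.elim (ρ q x) 0, Subsingleton.elim x 0, map_zero, map_zero, sub_zero]; exact zero_mem _

end

/-- a `D`-module structure on a presheaf of modules -/
structure DStr {A D : NFᵒᵖ ⥤ CommRingCat.{u}} (j : A ⟶ D) (M : PM.{w} A) where
  md : ∀ a : NF, Module (D.obj (op a)) (M.obj a)
  tower : ∀ (a : NF) (r : A.obj (op a)) (m : M.obj a), (md a).smul ((j.app (op a)).hom r) m = r • m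
  map_smul : ∀ {a b : NF} (φ : a ⟶ b) (d : D.obj (op b)) (m : M.obj b),
    M.map φ ((md b).smul d m) = (md a).smul (rg D φ d) (M.map φ m)

section DStr

variable {A D : NFᵒᵖ ⥤ CommRingCat.{u}} {j : A ⟶ D} {M : PM.{w} A} (S : DStr j M)

/-- multiplication by an element of `D⟨a⟩` -/
def DStr.mul (a : NF) (d : D.obj (op a)) : M.obj a →ₗ[A.obj (op a)] M.obj a :=
  letI := S.md a
  { toFun := fun m => d • m
    map_add' := fun x y => smul_add d x y
    map_smul' := fun r x => by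
      have h1 : ∀ y : M.obj a, r • y = (j.app (op a)).hom r • y := fun y => (S.tower a r y).symm
      rw [RingHom.id_apply, h1, h1, smul_smul, smul_smul, mul_comm] }

theorem DStr.mul_add (a : NF) (d e : D.obj (op a)) (m : M.obj a) : S.mul a (d + e) m = S.mul a d m + S.mul a e m :=
  letI := S.md a
  add_smul d e m

theorem DStr.mul_zero (a : NF) (m : M.obj a) : S.mul a 0 m = 0 :=
  letI := S.md a
  zero_smul _ m

theorem DStr.mul_mul (a : NF) (d e : D.obj (op a)) (m : M.obj a) : S.mul a (d * e) m = S.mul a d (S.mul a e m) :=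
  letI := S.md a
  mul_smul d e m

theorem DStr.mul_one (a : NF) (m : M.obj a) : S.mul a 1 m = m :=
  letI := S.md a
  one_smul _ m

theorem DStr.mul_alg (a : NF) (r : A.obj (op a)) (m : M.obj a) : S.mul a ((j.app (op a)).hom r) m = r • m :=
  S.tower a r m

theorem DStr.map_mul {a b : NF} (φ : a ⟶ b) (d : D.obj (op b)) (m : M.obj b) :
    M.map φ (S.mul b d m) = S.mul a (rg D φ d) (M.map φ m) := S.map_smul φ d m

theorem DStr.mul_sum (a : NF) {ι : Type*} (s : Finset ι) (f : ι → D.obj (op a)) (m : M.obj a) :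
    S.mul a (∑ i ∈ s, f i) m = ∑ i ∈ s, S.mul a (f i) m :=
  letI := S.md a
  Finset.sum_smul

variable {P : Type p} {σ : P → D.obj (op ⟨0⟩)}

/-- `D`-modules are small of length one -/
theorem DStr.smallLen (hM : M.Cart) {ρ : P → (M.obj ⟨0⟩ →ₗ[A.obj (op ⟨0⟩)] M.obj ⟨0⟩)}
    (hρ : ∀ q x, ρ q x = S.mul ⟨0⟩ (σ q) x) : SmallLen j σ 1 M hM ρ := by
  have key : ∀ (t : P →₀ A.obj (op ⟨1⟩)) (x : M.obj ⟨1⟩), opx hM ρ t x = S.mul ⟨1⟩ (valx j σ t) x := by
    intro t x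
    have : opx hM ρ t = S.mul ⟨1⟩ (valx j σ t) := by
      refine (hM (pr ⟨0⟩)).hom_ext fun m => ?_
      rw [opx_map, valx, Finsupp.sum, Finsupp.sum, S.mul_sum]
      refine Finset.sum_congr rfl fun q _ => ?_
      rw [S.mul_mul, S.mul_alg, ← S.map_mul, hρ]
    rw [this]
  refine ⟨fun n => if n = 0 then ⊤ else ⊥, if_pos rfl, if_neg one_ne_zero, ?_, ?_, ?_, ?_, ?_⟩
  · intro n
    rw [if_neg (Nat.succ_ne_zero n)]
    exact bot_le
  · intro n q x hx
    rcases eq_or_ne n 0 with rfl | h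
    · rw [if_pos rfl]; trivial
    · rw [if_neg h, Submodule.mem_bot] at hx ⊢
      rw [hx, map_zero]
  · intro n x hx
    rcases eq_or_ne n 0 with rfl | h
    · rw [if_pos rfl, up_top hM]; trivial
    · rw [if_neg h, Submodule.mem_bot] at hx
      rw [hx, map_zero]; exact zero_mem _
  · intro n q hq x hx
    rw [if_neg (Nat.succ_ne_zero n), Submodule.mem_bot, hρ, hq, S.mul_zero]
  · intro n q t ht x hx
    have : M.map (lst ⟨0⟩) (ρ q x) - opx hM ρ t (M.map (lst ⟨0⟩) x) = 0 := by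
      rw [key, ht, hρ, S.map_mul, sub_self]
    rw [this]
    exact zero_mem _

end DStr

end Groth.Agent.ResProp.EF.K409
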