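import Groth.Agent.ResProp.EF.K110.TensFlat
import Groth.Agent.ResProp.EF.K744.Rep

/-!
# Smallness theories over a chart (c4 of F5)

`X : Chart A C`, `P` a commutative `A`-algebra. `IsAct ρ`: `ρ : P → End V` is an action of the `A`-algebra `P`.
`SmallTh X P TC c`: a class `S M ρ` of pairs (object of `C`, action of `P` on `us M`), containing the middle terms
of exact sequences of equivariant maps and stable under `Y ⊗ -`.
`SmallTh.hom`: the cohomology of a complex with `P`-action and small terms is small.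
-/

set_option autoImplicit false
set_option backward.defeqAttrib.useBackward true
set_option backward.isDefEq.respectTransparency false

universe w v u

open CategoryTheory CategoryTheory.Limits MonoidalCategory HomologicalComplex

namespace Groth.Agent.ResProp.EF.K409

open Groth.Agent.ResProp.EF.K294 Groth.Agent.PerfB.RingKFlat Groth.Agent.PerfB

section Act

variable {A : Type u} [CommRing A] {P : Type u} [CommRing P] [Algebra A P]

/-- `ρ` is an action of the `A`-algebra `P` -/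
structure IsAct {V : ModuleCat.{u} A} (ρ : P → (V ⟶ V)) : Prop where
  one : ρ 1 = 𝟙 V
  mul : ∀ p q : P, ρ (p * q) = ρ p ≫ ρ q
  add : ∀ p q : P, ρ (p + q) = ρ p + ρ q
  alg : ∀ a : A, ρ (algebraMap A P a) = a • 𝟙 V

/-- transport along an isomorphism -/
lemma IsAct.of_iso {V W : ModuleCat.{u} A} {ρ : P → (V ⟶ V)} (h : IsAct ρ) (e : V ≅ W) :
    IsAct (fun p => e.inv ≫ ρ p ≫ e.hom) where
  one := by rw [h.one]; simp
  mul p q := by rw [h.mul]; simp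
  add p q := by rw [h.add]; simp
  alg a := by rw [h.alg]; simp

end Act

variable {A : Type u} [CommRing A] {C : Type v} [Category.{w} C] [Abelian C] (X : Chart A C)
  (P : Type u) [CommRing P] [Algebra A P]
  (TC : C ⥤ C ⥤ C) (c : BifCompare.Data TC (TR A) X.us X.us X.us)

/-- a class of small objects: `S M ρ` for `M : C` and an action `ρ` of `P` on `us M` -/
structure SmallTh where
  S : ∀ M : C, (P → (X.us.obj M ⟶ X.us.obj M)) → Prop
  act : ∀ (M : C) (ρ : P → (X.us.obj M ⟶ X.us.obj M)), S M ρ → IsAct ρ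
  zero : ∀ (M : C) (ρ : P → (X.us.obj M ⟶ X.us.obj M)), IsZero M → S M ρ
  mid : ∀ (M₁ M₂ M₃ : C) (f : M₁ ⟶ M₂) (g : M₂ ⟶ M₃) (w : f ≫ g = 0)
    (ρ₁ : P → (X.us.obj M₁ ⟶ X.us.obj M₁)) (ρ₂ : P → (X.us.obj M₂ ⟶ X.us.obj M₂))
    (ρ₃ : P → (X.us.obj M₃ ⟶ X.us.obj M₃)), (ShortComplex.mk f g w).Exact →
    (∀ p, ρ₁ p ≫ X.us.map f = X.us.map f ≫ ρ₂ p) → (∀ p, ρ₂ p ≫ X.us.map g = X.us.map g ≫ ρ₃ p) →
    IsAct ρ₂ → S M₁ ρ₁ → S M₃ ρ₃ → S M₂ ρ₂
  tens : ∀ (Y M : C) (ρ : P → (X.us.obj M ⟶ X.us.obj M)), S M ρ →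
    S ((TC.obj Y).obj M) (fun p => (c.e Y M).hom ≫ ((TR A).obj (X.us.obj Y)).map (ρ p) ≫ (c.e Y M).inv)

namespace SmallTh

variable {X P TC c} (𝒮 : SmallTh X P TC c)

lemma isZero_us {M : C} (h : IsZero M) : IsZero (X.us.obj M) := X.us.map_isZero h

/-- subobjects -/
lemma sub {M N : C} (i : N ⟶ M) [Mono i] {ρ : P → (X.us.obj M ⟶ X.us.obj M)}
    {ρ' : P → (X.us.obj N ⟶ X.us.obj N)} (hi : ∀ p, ρ' p ≫ X.us.map i = X.us.map i ≫ ρ p) (h' : IsAct ρ')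
    (h : 𝒮.S M ρ) : 𝒮.S N ρ' := by
  obtain ⟨Z, hZ⟩ := HasZeroObject.zero (C := C)
  refine 𝒮.mid Z N M 0 i (by simp) 0 ρ' ρ ?_ ?_ hi h' (𝒮.zero Z _ hZ) h
  · exact (ShortComplex.exact_iff_mono _ rfl).2 (inferInstanceAs (Mono i))
  · intro p
    exact (X.us.map_isZero hZ).eq_of_src _ _

/-- quotients -/
lemma quot {M N : C} (q : M ⟶ N) [Epi q] {ρ : P → (X.us.obj M ⟶ X.us.obj M)}
    {ρ' : P → (X.us.obj N ⟶ X.us.obj N)} (hi : ∀ p, ρ p ≫ X.us.map q = X.us.map q ≫ ρ' p) (h' : IsAct ρ')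
    (h : 𝒮.S M ρ) : 𝒮.S N ρ' := by
  obtain ⟨Z, hZ⟩ := HasZeroObject.zero (C := C)
  refine 𝒮.mid M N Z q 0 (by simp) ρ ρ' 0 ?_ hi ?_ h' h (𝒮.zero Z _ hZ)
  · exact (ShortComplex.exact_iff_epi _ rfl).2 (inferInstanceAs (Epi q))
  · intro p
    exact (X.us.map_isZero hZ).eq_of_tgt _ _

/-- isomorphisms -/
lemma iso {M N : C} (e : M ≅ N) {ρ : P → (X.us.obj M ⟶ X.us.obj M)}
    {ρ' : P → (X.us.obj N ⟶ X.us.obj N)} (hi : ∀ p, ρ p ≫ X.us.map e.hom = X.us.map e.hom ≫ ρ' p)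
    (h : 𝒮.S M ρ) : 𝒮.S N ρ' := by
  have h1 := 𝒮.act _ _ h
  have h2 : ρ' = fun p => (X.us.mapIso e).inv ≫ ρ p ≫ (X.us.mapIso e).hom := by
    funext p
    rw [Iso.eq_inv_comp]
    exact (hi p).symm
  exact 𝒮.quot e.hom hi (h2 ▸ h1.of_iso (X.us.mapIso e)) h

end SmallTh

end Groth.Agent.ResProp.EF.K409
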